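import Cfsg.Agent.Lib.CTRec.TypeD

/-!
A coherent family of type `D` over the natural one, in which the two end tori agree at `-1`, generates a
group mapped injectively to the orthogonal group.
-/

set_option autoImplicit false
set_option linter.unusedSectionVars false
set_option linter.unusedSimpArgs false
set_option maxHeartbeats 1000000

namespace Cfsg.Agent.OmegaPres

open Matrix Cfsg.Agent.CTRec Cfsg.Agent.CTRec.DModel
open SL2Pres (up low)
open Cfsg.Agent.Orth (qPlus)

variable {F : Type*} [Field F] [Finite F] {n : ℕ} {Γ : Type*} [Group Γ]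

/-- the polar form -/
abbrev pol (x y : Fin n ⊕ Fin n → F) : F := QuadraticMap.polar (qPlus F n) x y

theorem pol_act (g : Iso F n) (x y : Fin n ⊕ Fin n → F) : pol (act g x) (act g y) = pol x y := by
  have h := Orth.mem_isometryGroup.1 g.2
  simp only [pol, QuadraticMap.polar, act, ← Matrix.mulVec_add, h]

theorem pol_act' (g : Iso F n) {x y z : Fin n ⊕ Fin n → F} (h : act g y = z) : pol (act g x) z = pol x y := by
  rw [← h, pol_act]

theorem act_add (g : Iso F n) (v w : Fin n ⊕ Fin n → F) : act g (v + w) = act g v + act g w :=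
  Matrix.mulVec_add _ _ _

theorem act_sub (g : Iso F n) (v w : Fin n ⊕ Fin n → F) : act g (v - w) = act g v - act g w :=
  Matrix.mulVec_sub _ _ _

theorem act_neg (g : Iso F n) (v : Fin n ⊕ Fin n → F) : act g (-v) = -act g v := Matrix.mulVec_neg _ _

theorem act_inv_of (g : Iso F n) {v w : Fin n ⊕ Fin n → F} (h : act g v = w) : act g⁻¹ w = v := by
  rw [← h, act_inv]

theorem levi_fw {a b : Fin n} (h : a ≠ b) (t : F) (k : Fin n) :
    act (levi (T a b t)) (fw k) = fw k - (if k = a then t else 0) • fw b := by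
  rw [T_act h]
  funext i
  rcases i with i | i
  · by_cases h2 : k = a <;> simp [h2, fw, Pi.single_apply]
  · by_cases h1 : i = b <;> by_cases h2 : k = a <;> simp_all [fw, Pi.single_apply]

theorem ev_flip {l k : Fin n} (hk : k ≠ l) : ev (F := F) k ∘ flipIdx n l = ev k := by
  funext i
  rcases i with i | i <;> simp only [Function.comp_apply, flipIdx_inl, flipIdx_inr] <;>
    by_cases hi : i = l <;> simp [hi, ev, Pi.single_apply, Ne.symm hk]

theorem fw_flip {l k : Fin n} (hk : k ≠ l) : fw (F := F) k ∘ flipIdx n l = fw k := by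
  funext i
  rcases i with i | i <;> simp only [Function.comp_apply, flipIdx_inl, flipIdx_inr] <;>
    by_cases hi : i = l <;> simp [hi, fw, Pi.single_apply, Ne.symm hk]

theorem ev_flip_self (l : Fin n) : ev (F := F) l ∘ flipIdx n l = fw l := by
  funext i
  rcases i with i | i <;> simp only [Function.comp_apply, flipIdx_inl, flipIdx_inr] <;>
    by_cases hi : i = l <;> simp [hi, ev, fw, Pi.single_apply]

theorem fw_flip_self (l : Fin n) : fw (F := F) l ∘ flipIdx n l = ev l := by
  funext i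
  rcases i with i | i <;> simp only [Function.comp_apply, flipIdx_inl, flipIdx_inr] <;>
    by_cases hi : i = l <;> simp [hi, ev, fw, Pi.single_apply]

theorem smul_flip (c : F) (v : Fin n ⊕ Fin n → F) (l : Fin n) :
    (c • v) ∘ flipIdx n l = c • (v ∘ flipIdx n l) := rfl

theorem add_flip (v w : Fin n ⊕ Fin n → F) (l : Fin n) :
    (v + w) ∘ flipIdx n l = v ∘ flipIdx n l + w ∘ flipIdx n l := rfl

theorem sub_flip (v w : Fin n ⊕ Fin n → F) (l : Fin n) :
    (v - w) ∘ flipIdx n l = v ∘ flipIdx n l - w ∘ flipIdx n l := rfl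

theorem pol_ev_fw (i j : Fin n) : pol (ev (F := F) i) (fw j) = if i = j then 1 else 0 := by
  show QuadraticMap.polar _ _ _ = _
  rw [(polar_ev _ _).2]
  simp [ev, Pi.single_apply, eq_comm]

theorem pol_fw_ev (i j : Fin n) : pol (fw (F := F) i) (ev j) = if i = j then 1 else 0 := by
  show QuadraticMap.polar _ _ _ = _
  rw [(polar_ev _ _).1]
  simp [fw, Pi.single_apply, eq_comm]

theorem pol_fw_fw (i j : Fin n) : pol (fw (F := F) i) (fw j) = 0 := by
  show QuadraticMap.polar _ _ _ = _
  rw [(polar_ev _ _).2]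
  simp [fw, Pi.single_apply]

/-- The action of an embedded `SL₂` on two vectors. -/
theorem rho_act (ρ : SpecialLinearGroup (Fin 2) F →* Iso F n) (v0 v1 : Fin n ⊕ Fin n → F)
    (hu : ∀ t, act (ρ (up t)) v0 = v0 ∧ act (ρ (up t)) v1 = v1 + t • v0)
    (hl : ∀ t, act (ρ (low t)) v0 = v0 + t • v1 ∧ act (ρ (low t)) v1 = v1)
    (x : SpecialLinearGroup (Fin 2) F) :
    act (ρ x) v0 = x.1 0 0 • v0 + x.1 1 0 • v1 ∧ act (ρ x) v1 = x.1 0 1 • v0 + x.1 1 1 • v1 := by
  have hs : ∀ (g : Iso F n) (c : F) (v : Fin n ⊕ Fin n → F), act g (c • v) = c • act g v :=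
    fun g c v => Matrix.mulVec_smul _ _ _
  let S : Submonoid (SpecialLinearGroup (Fin 2) F) :=
    { carrier := {x | act (ρ x) v0 = x.1 0 0 • v0 + x.1 1 0 • v1 ∧ act (ρ x) v1 = x.1 0 1 • v0 + x.1 1 1 • v1}
      one_mem' := by simp [act_one, Matrix.one_apply]
      mul_mem' := by
        rintro a b ⟨a0, a1⟩ ⟨b0, b1⟩
        show act (ρ (a * b)) v0 = _ ∧ act (ρ (a * b)) v1 = _
        simp only [map_mul, act_mul, b0, b1, act_add, hs, a0, a1, vMul, Matrix.mul_apply, Fin.sum_univ_two]
        constructor <;> match_scalars <;> ring }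
  have htop : (⊤ : Subgroup (SpecialLinearGroup (Fin 2) F)).toSubmonoid ≤ S := by
    rw [← sl2_gen (F := F), Subgroup.closure_toSubmonoid_of_finite]
    refine Submonoid.closure_le.2 ?_
    rintro _ (⟨t, rfl⟩ | ⟨t, rfl⟩) <;>
      simp [S, SL2Pres.up_val, SL2Pres.low_val, (hu t).1, (hu t).2, (hl t).1, (hl t).2, add_comm]
  exact htop (Subgroup.mem_top x)

/-- the line stabiliser -/
def lineOf (π : Γ →* Iso F n) (v : Fin n ⊕ Fin n → F) : Subgroup Γ where
  carrier := {g | ∃ c : F, c ≠ 0 ∧ act (π g) v = c • v}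
  one_mem' := ⟨1, one_ne_zero, by rw [map_one, one_smul]; exact act_one _⟩
  mul_mem' := by
    rintro a b ⟨c, hc, ha⟩ ⟨d, hd, hb⟩
    refine ⟨d * c, mul_ne_zero hd hc, ?_⟩
    rw [map_mul, act_mul, hb, single_act, ha, smul_smul]
  inv_mem' := by
    rintro a ⟨c, hc, ha⟩
    refine ⟨c⁻¹, inv_ne_zero hc, ?_⟩
    rw [map_inv]
    have := act_inv (π a) v
    rw [ha, single_act] at this
    exact (eq_inv_smul_iff₀ hc).2 this

/-- the point stabiliser -/
def fixOf (π : Γ →* Iso F n) (v : Fin n ⊕ Fin n → F) : Subgroup Γ where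
  carrier := {g | act (π g) v = v}
  one_mem' := by
    show act (π 1) v = v
    rw [map_one]; exact act_one _
  mul_mem' := by
    intro a b (ha : act (π a) v = v) (hb : act (π b) v = v)
    show act (π (a * b)) v = v
    rw [map_mul, act_mul, hb, ha]
  inv_mem' := by
    intro a (ha : act (π a) v = v)
    show act (π a⁻¹) v = v
    rw [map_inv]; exact act_inv_of _ ha

theorem fix_le_line (π : Γ →* Iso F n) (v : Fin n ⊕ Fin n → F) : fixOf π v ≤ lineOf π v :=
  fun g hg => ⟨1, one_ne_zero, by rw [one_smul]; exact hg⟩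

variable (hn : 4 ≤ n)

theorem dg_act {a b : Fin n} (h : a ≠ b) (u : Fˣ) (k : Fin n) :
    act (levi (T a b (u : F) * T b a (-(u : F)⁻¹) * T a b (u : F) *
      (T a b (-1) * T b a 1 * T a b (-1)))) (ev k) =
      (if k = a then (u : F) else if k = b then (u : F)⁻¹ else 1) • ev k ∧
    act (levi (T a b (u : F) * T b a (-(u : F)⁻¹) * T a b (u : F) *
      (T a b (-1) * T b a 1 * T a b (-1)))) (fw k) =
      (if k = a then (u : F)⁻¹ else if k = b then (u : F) else 1) • fw k := by
  have hu : (u : F) ≠ 0 := u.ne_zero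
  have h' := h.symm
  simp only [map_mul, act_mul, act_add, act_sub, single_act, levi_ev h, levi_ev h', levi_fw h, levi_fw h']
  constructor <;> (by_cases ha : k = a <;> by_cases hb : k = b <;>
    simp_all [act_add, act_sub, single_act, levi_ev h, levi_ev h', levi_fw h, levi_fw h'] <;>
    (try match_scalars) <;> (try field_simp) <;> (try ring))

theorem node_low_eq {i : ℕ} (hi : i + 1 < n) (t : F) :
    node hn i (up t) = levi (T (ix hn i) (ix hn (i + 1)) t) ∧
      node hn i (low t) = levi (T (ix hn (i + 1)) (ix hn i) t) := node_low_vals hn hi t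

/-- the exponent of node `i` at coordinate `j` -/
def pair (n i j : ℕ) (u : Fˣ) : Fˣ :=
  if i + 1 = n then (if j = n - 2 ∨ j = n - 1 then u else 1)
  else if j = i then u else if j = i + 1 then u⁻¹ else 1

theorem ix_inj {i j : ℕ} (hi : i < n) (hj : j < n) : ix hn i = ix hn j ↔ i = j :=
  ⟨fun e => by
    have := congrArg Fin.val e
    simp only [ix] at this
    omega, fun e => e ▸ rfl⟩

theorem node_dg {i j : ℕ} (hi : i < n) (hj : j < n) (u : Fˣ) :
    act (node hn i (dgHom u)) (ev (ix hn j)) = ((pair n i j u : Fˣ) : F) • ev (ix hn j) ∧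
      act (node hn i (dgHom u)) (fw (ix hn j)) = (((pair n i j u)⁻¹ : Fˣ) : F) • fw (ix hn j) := by
  by_cases h : i + 1 = n
  · obtain rfl : i = n - 1 := by omega
    have e : node hn (n - 1) (dgHom u) = levi' (lst hn) (T (ix hn (n - 2)) (lst hn) (u : F) *
        T (lst hn) (ix hn (n - 2)) (-(u : F)⁻¹) * T (ix hn (n - 2)) (lst hn) (u : F) *
        (T (ix hn (n - 2)) (lst hn) (-1) * T (lst hn) (ix hn (n - 2)) 1 * T (ix hn (n - 2)) (lst hn) (-1))) := by
      simp only [dgHom_eq, map_mul, (node_last_vals hn _).1, (node_last_vals hn _).2]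
    have hne : ix hn (n - 2) ≠ lst hn := lt_last hn (by omega)
    rw [e, levi'_act, levi'_act, pair, if_pos h]
    by_cases hl : j = n - 1
    · subst hl
      rw [ev_flip_self, fw_flip_self, (dg_act hne u _).1, (dg_act hne u _).2, smul_flip, smul_flip,
        ev_flip_self, fw_flip_self, if_neg hne.symm, if_pos rfl, if_neg hne.symm, if_pos rfl,
        if_pos (Or.inr rfl), Units.val_inv_eq_inv_val]
      exact ⟨rfl, rfl⟩
    · have hjl : ix hn j ≠ lst hn := ix_ne hn hj (by omega) hl
      rw [ev_flip hjl, fw_flip hjl, (dg_act hne u _).1, (dg_act hne u _).2, smul_flip, smul_flip,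
        ev_flip hjl, fw_flip hjl, if_neg hjl, if_neg hjl]
      by_cases ha : j = n - 2
      · simp [ha]
      · rw [if_neg (fun e => ha ((ix_inj hn hj (by omega)).1 e)),
          if_neg (fun e => ha ((ix_inj hn hj (by omega)).1 e)), if_neg (by omega)]
        simp
  · have e : node hn i (dgHom u) = levi (T (ix hn i) (ix hn (i + 1)) (u : F) *
        T (ix hn (i + 1)) (ix hn i) (-(u : F)⁻¹) * T (ix hn i) (ix hn (i + 1)) (u : F) *
        (T (ix hn i) (ix hn (i + 1)) (-1) * T (ix hn (i + 1)) (ix hn i) 1 *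
          T (ix hn i) (ix hn (i + 1)) (-1))) := by
      simp only [dgHom_eq, map_mul, (node_low_eq hn (show i + 1 < n by omega) _).1,
        (node_low_eq hn (show i + 1 < n by omega) _).2]
    have hne : ix hn i ≠ ix hn (i + 1) := ix_ne hn (by omega) (by omega) (by omega)
    rw [e, (dg_act hne u _).1, (dg_act hne u _).2, pair, if_neg h]
    simp only [ix_inj hn hj hi, ix_inj hn hj (show i + 1 < n by omega)]
    split_ifs <;> simp

theorem node_fixes {i j : ℕ} (hi : i < n) (hji : j < i) (hj : j + 2 < n ∨ i + 1 < n)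
    (x : SpecialLinearGroup (Fin 2) F) :
    act (node hn i x) (ev (ix hn j)) = ev (ix hn j) ∧ act (node hn i x) (fw (ix hn j)) = fw (ix hn j) := by
  let π : SpecialLinearGroup (Fin 2) F →* Iso F n := node hn i
  have key : (⊤ : Subgroup (SpecialLinearGroup (Fin 2) F)) ≤
      fixOf π (ev (ix hn j)) ⊓ fixOf π (fw (ix hn j)) := by
    rw [← sl2_gen (F := F), Subgroup.closure_le]
    by_cases h : i + 1 = n
    · obtain rfl : i = n - 1 := by omega
      have hl : ix hn j ≠ lst hn := ix_ne hn (by omega) (by omega) (by omega)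
      have ha : ix hn j ≠ ix hn (n - 2) := ix_ne hn (by omega) (by omega) (by omega)
      have hne : ix hn (n - 2) ≠ lst hn := lt_last hn (by omega)
      rintro _ (⟨t, rfl⟩ | ⟨t, rfl⟩) <;> refine ⟨?_, ?_⟩ <;> show act (node hn (n - 1) _) _ = _
      · rw [(node_last_vals hn t).1, levi'_act, ev_flip hl, levi_ev hne, if_neg hl, zero_smul, add_zero, ev_flip hl]
      · rw [(node_last_vals hn t).1, levi'_act, fw_flip hl, levi_fw hne, if_neg ha, zero_smul, sub_zero, fw_flip hl]
      · rw [(node_last_vals hn t).2, levi'_act, ev_flip hl, levi_ev hne.symm, if_neg ha, zero_smul, add_zero, ev_flip hl]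
      · rw [(node_last_vals hn t).2, levi'_act, fw_flip hl, levi_fw hne.symm, if_neg hl, zero_smul, sub_zero, fw_flip hl]
    · have hne : ix hn i ≠ ix hn (i + 1) := ix_ne hn (by omega) (by omega) (by omega)
      have h1 : ix hn j ≠ ix hn i := ix_ne hn (by omega) (by omega) (by omega)
      have h2 : ix hn j ≠ ix hn (i + 1) := ix_ne hn (by omega) (by omega) (by omega)
      rintro _ (⟨t, rfl⟩ | ⟨t, rfl⟩) <;> refine ⟨?_, ?_⟩ <;> show act (node hn i _) _ = _ <;>
        simp [(node_low_eq hn (show i + 1 < n by omega) t).1, (node_low_eq hn (show i + 1 < n by omega) t).2,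
          levi_ev hne, levi_ev hne.symm, levi_fw hne, levi_fw hne.symm, h1, h2]
  exact ⟨(key (Subgroup.mem_top x)).1, (key (Subgroup.mem_top x)).2⟩

theorem node_up_ev {k : ℕ} (hk : k + 1 < n) (t : F) :
    act (node hn k (up t)) (ev (ix hn k)) = ev (ix hn k) := by
  have hne : ix hn k ≠ ix hn (k + 1) := ix_ne hn (by omega) hk (by omega)
  rw [(node_low_eq hn hk t).1, levi_ev hne, if_neg hne, zero_smul, add_zero]

theorem wel_k {k : ℕ} (hk : k + 1 < n) :
    act (node (F := F) hn k wel) (ev (ix hn k)) = -ev (ix hn (k + 1)) ∧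
    act (node (F := F) hn k wel) (ev (ix hn (k + 1))) = ev (ix hn k) ∧
    act (node (F := F) hn k wel) (fw (ix hn k)) = -fw (ix hn (k + 1)) ∧
    act (node (F := F) hn k wel) (fw (ix hn (k + 1))) = fw (ix hn k) := by
  have hne : ix hn k ≠ ix hn (k + 1) := ix_ne hn (by omega) hk (by omega)
  rw [node_wel hn hk, (mono_ev hne).1, (mono_act hne).1, (mono_ev hne).2]
  refine ⟨by simp, rfl, ?_, rfl⟩
  simp only [map_mul, act_mul, act_add, act_sub, single_act, levi_fw hne, levi_fw hne.symm, ↓reduceIte,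
    if_neg hne, if_neg hne.symm, zero_smul, sub_zero]
  module

section Family

variable (A : DFam F Γ n) (π : Γ →* Iso F n) (hπ : ∀ i < n, ∀ x, π (A.ψ i x) = node hn i x)

include hπ

theorem nd_fix {j k : ℕ} (hjk : j < k) (hj : j + 2 < n) :
    A.rig.Nd k ≤ fixOf π (ev (ix hn j)) ⊓ fixOf π (fw (ix hn j)) := by
  refine A.rig.Nd_le fun i hki hi => ⟨?_, ?_⟩ <;> rintro _ ⟨x, -, rfl⟩ <;>
    refine ⟨?_, ?_⟩ <;> show act (π (A.ψ i x)) _ = _ <;> rw [hπ i hi]
  exacts [(node_fixes hn hi (by omega) (Or.inl hj) x).1, (node_fixes hn hi (by omega) (Or.inl hj) x).2,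
    (node_fixes hn hi (by omega) (Or.inl hj) x).1, (node_fixes hn hi (by omega) (Or.inl hj) x).2]

theorem tt_line {j : ℕ} (hj : j < n) :
    A.TT ≤ lineOf π (ev (ix hn j)) ⊓ lineOf π (fw (ix hn j)) :=
  A.TT_le fun i hi u => ⟨⟨_, Units.ne_zero _, by rw [hπ i hi]; exact (node_dg hn hi hj u).1⟩,
    ⟨_, Units.ne_zero _, by rw [hπ i hi]; exact (node_dg hn hi hj u).2⟩⟩

theorem lv_line {j k : ℕ} (hjk : j < k) (hj : j + 2 < n) :
    A.rig.Lv k ≤ lineOf π (ev (ix hn j)) ⊓ lineOf π (fw (ix hn j)) :=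
  sup_le ((nd_fix hn A π hπ hjk hj).trans (inf_le_inf (fix_le_line _ _) (fix_le_line _ _)))
    (tt_line hn A π hπ (by omega))

theorem x_fix {k : ℕ} (hk : k + 1 < n) : A.rig.X k ≤ fixOf π (ev (ix hn k)) := by
  rintro _ ⟨_, ⟨t, rfl⟩, rfl⟩
  show act (π (A.ψ k (up t))) _ = _
  rw [hπ k (by omega)]
  exact node_up_ev hn hk t

theorem u_fix {k : ℕ} (hk : k + 2 < n) : A.rig.U k ≤ fixOf π (ev (ix hn k)) := by
  refine iSup₂_le fun l hl => cg_le_of fun x hx => ?_
  obtain ⟨c, hc, e⟩ := (lv_line hn A π hπ (Nat.lt_succ_self k) hk hl).1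
  show act (π (l * x * l⁻¹)) _ = _
  have hi : act (π l⁻¹) (ev (ix hn k)) = c⁻¹ • ev (ix hn k) := by
    rw [map_inv]
    refine act_inv_of _ ?_
    rw [single_act, e, smul_smul, inv_mul_cancel₀ hc, one_smul]
  rw [map_mul, map_mul, act_mul, act_mul, hi, single_act, x_fix hn A π hπ (by omega) hx, single_act, e,
    smul_smul, inv_mul_cancel₀ hc, one_smul]

theorem p_line {k : ℕ} (hk : k + 2 < n) : A.rig.P k ≤ lineOf π (ev (ix hn k)) :=
  sup_le ((u_fix hn A π hπ hk).trans (fix_le_line _ _))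
    ((lv_line hn A π hπ (Nat.lt_succ_self k) hk).trans inf_le_left)

theorem mm_act : ∀ d, d + 2 ≤ n → ∃ c : F, c ≠ 0 ∧
    act (π (A.rig.mmAux d)) (ev (ix hn (n - 2 - d))) = c • fw (ix hn (n - 2 - d))
  | 0, _ => by
    refine ⟨-1, neg_ne_zero.2 one_ne_zero, ?_⟩
    show act (π (A.ψ (n - 2) wel * A.ψ (n - 1) wel)) (ev (ix hn (n - 2 - 0))) = _
    have hne : ix hn (n - 2) ≠ lst hn := lt_last hn (by omega)
    have e : ix hn (n - 2 + 1) = lst hn := by rw [show n - 2 + 1 = n - 1 by omega]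
    rw [map_mul, hπ _ (by omega), hπ _ (by omega), Nat.sub_zero, act_mul, node_wel hn (i := n - 2) (by omega),
      node_wel_last, e, mono'_ev hne, single_act, (mono_ev hne).2]
  | d + 1, hd => by
    obtain ⟨c, hc, ih⟩ := mm_act d (by omega)
    refine ⟨-c, neg_ne_zero.2 hc, ?_⟩
    show act (π (A.ψ (n - 3 - d) wel * A.rig.mmAux d * A.ψ (n - 3 - d) wel)) _ = _
    rw [map_mul, map_mul, hπ _ (by omega)]
    obtain ⟨k, hk⟩ : ∃ k, k = n - 3 - d := ⟨_, rfl⟩
    rw [show n - 2 - (d + 1) = k by omega, ← hk]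
    rw [show n - 2 - d = k + 1 by omega] at ih
    obtain ⟨h1, -, -, h2⟩ := wel_k (F := F) hn (k := k) (by omega)
    rw [act_mul, act_mul, h1, act_neg, act_neg, ih, single_act, h2, neg_smul]

omit hπ in
theorem mm_nd : ∀ d, d + 2 ≤ n → A.rig.mmAux d ∈ A.rig.Nd (n - 2 - d)
  | 0, _ => mul_mem (A.rig.node_le (by omega) (by omega) (A.rig.w_mem (by omega)))
      (A.rig.node_le (by omega) (by omega) (A.rig.w_mem (by omega)))
  | d + 1, hd => by
    have h1 := A.rig.node_le (k := n - 2 - (d + 1)) (i := n - 3 - d) (by omega) (by omega)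
      (A.rig.w_mem (i := n - 3 - d) (by omega))
    have h2 : A.rig.Nd (n - 2 - d) ≤ A.rig.Nd (n - 2 - (d + 1)) :=
      A.rig.Nd_le fun i hi hi' => ⟨le_sup_left.trans (A.rig.node_le (by omega) hi'),
        le_sup_right.trans (A.rig.node_le (by omega) hi')⟩
    exact mul_mem (mul_mem h1 (h2 (mm_nd d (by omega)))) h1

theorem u_step {k : ℕ} (h3 : k + 3 ≤ n) (st : A.rig.Stage k)
    (hk : ∀ u ∈ A.rig.B k, act (π u) (fw (ix hn (k + 1))) = fw (ix hn (k + 1)) → u = 1) :
    ∀ u ∈ A.rig.U k, act (π u) (fw (ix hn k)) = fw (ix hn k) → u = 1 := by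
  intro u hu hf
  have hkn : k + 1 < n := by omega
  have hXU : A.rig.X k ≤ A.rig.U k := A.rig.X_le_U k
  have hall : A.rig.X k ⊔ A.rig.Z k ≤ A.rig.U k := st.U_eq ▸ le_sup_left
  have hAU : A.rig.A k ≤ A.rig.U k := st.U_eq ▸ le_sup_right
  have hu0 := hu
  rw [st.U_eq] at hu
  obtain ⟨p, hp, a, ha, rfl⟩ := mem_sup_prod (st.U_ab.mono hAU hall).le_stab hu
  obtain ⟨x, hx, z, hz, rfl⟩ := mem_sup_prod
    (st.U_ab.mono (le_sup_right.trans hall) hXU).le_stab hp
  obtain ⟨a', ha', rfl⟩ := ha
  obtain ⟨x', hx', rfl⟩ := hz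
  obtain ⟨_, ⟨t, rfl⟩, rfl⟩ := hx
  obtain ⟨_, ⟨t', rfl⟩, rfl⟩ := hx'
  set m := A.rig.mm (k + 1) with hm
  have hmN : m ∈ A.rig.Nd (k + 1) := by
    rw [hm, DRig.mm]
    have := mm_nd A (n - 2 - (k + 1)) (by omega)
    rwa [show n - 2 - (n - 2 - (k + 1)) = k + 1 by omega] at this
  have hB : A.rig.B k ≤ A.rig.Nd (k + 1) := by
    rw [DRig.B]
    split_ifs with h
    · exact sup_le (le_sup_left.trans (A.rig.node_le (by omega) (by omega)))
        (le_sup_left.trans (A.rig.node_le (by omega) (by omega)))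
    · exact A.rig.U_le_Nd (by omega)
  obtain ⟨w1, w2, w3, w4⟩ := wel_k (F := F) hn (k := k) hkn
  obtain ⟨ba, bb⟩ := nd_fix hn A π hπ (Nat.lt_succ_self k) (by omega) (hB ha')
  change act (π a') _ = _ at ba bb
  have hw : π (A.ψ k wel) = node hn k wel := hπ k (by omega) _
  have hwi : act (node hn k wel)⁻¹ (fw (ix hn k)) = fw (ix hn (k + 1)) := act_inv_of _ w4
  -- the last factor
  have hwa : π (A.rig.w k * a' * (A.rig.w k)⁻¹) = node hn k wel * π a' * (node hn k wel)⁻¹ := by
    rw [map_mul, map_mul, map_inv, show A.rig.w k = A.ψ k wel from rfl, hw]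
  set y := act (π (A.rig.w k * a' * (A.rig.w k)⁻¹)) (fw (ix hn k)) with hy
  have hy' : y = act (node hn k wel) (act (π a') (fw (ix hn (k + 1)))) := by
    rw [hy, hwa, act_mul, act_mul, hwi]
  have hne : ix hn (k + 1) ≠ ix hn k := ix_ne hn hkn (by omega) (by omega)
  have y1 : pol y (ev (ix hn (k + 1))) = 0 := by
    rw [hy', pol_act' _ (show act (node hn k wel) (-ev (ix hn k)) = ev (ix hn (k + 1)) by
      rw [act_neg, w1, neg_neg]),
      pol_act' (π a') (show act (π a') (-ev (ix hn k)) = -ev (ix hn k) by rw [act_neg, ba])]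
    simp [pol, QuadraticMap.polar_neg_right, pol_fw_ev, hne]
  have y2 : pol y (fw (ix hn (k + 1))) = 0 := by
    rw [hy', pol_act' _ (show act (node hn k wel) (-fw (ix hn k)) = fw (ix hn (k + 1)) by
      rw [act_neg, w3, neg_neg]),
      pol_act' (π a') (show act (π a') (-fw (ix hn k)) = -fw (ix hn k) by rw [act_neg, bb])]
    simp [pol, QuadraticMap.polar_neg_right, pol_fw_fw]
  have y3 : pol y (ev (ix hn k)) = 1 := by
    have hfix : act (π (A.rig.w k * a' * (A.rig.w k)⁻¹)) (ev (ix hn k)) = ev (ix hn k) :=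
      u_fix hn A π hπ (by omega) (hAU (conj_mem_cg ha'))
    rw [hy, pol_act' _ hfix, pol_fw_ev, if_pos rfl]
  have hx : ∀ t : F, π (A.ψ k (up t)) = levi (T (ix hn k) (ix hn (k + 1)) t) := fun t => by
    rw [hπ k (by omega), (node_low_eq hn hkn t).1]
  obtain ⟨c, hc, hmv⟩ := mm_act hn A π hπ (n - 2 - (k + 1)) (by omega)
  rw [show n - 2 - (n - 2 - (k + 1)) = k + 1 by omega] at hmv
  change act (π m) (ev (ix hn (k + 1))) = c • fw (ix hn (k + 1)) at hmv
  have hmk : act (π m) (ev (ix hn k)) = ev (ix hn k) := (nd_fix hn A π hπ (Nat.lt_succ_self k) (by omega) hmN).1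
  have hmi : act (π m)⁻¹ (fw (ix hn (k + 1))) = c⁻¹ • ev (ix hn (k + 1)) := by
    refine act_inv_of _ ?_
    rw [single_act, hmv, smul_smul, inv_mul_cancel₀ hc, one_smul]
  -- the middle factor, backwards
  have hzi : act (π (m * A.ψ k (up (-t')) * m⁻¹)) (fw (ix hn (k + 1))) =
      fw (ix hn (k + 1)) + (c⁻¹ * -t') • ev (ix hn k) := by
    rw [map_mul, map_mul, map_inv, hx, act_mul, act_mul, hmi, single_act, levi_ev hne.symm, if_pos rfl,
      single_act, act_add, hmv, single_act, hmk, smul_add, smul_smul, smul_smul, inv_mul_cancel₀ hc, one_smul]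
  set z := m * A.ψ k (up t') * m⁻¹ with hz
  have hzinv : z⁻¹ = m * A.ψ k (up (-t')) * m⁻¹ := by
    rw [hz, ← up_inv, map_inv]; group
  have hxf : act (π (A.ψ k (up t))) (fw (ix hn (k + 1))) = fw (ix hn (k + 1)) := by
    rw [hx, levi_fw hne.symm, if_neg hne, zero_smul, sub_zero]
  have hxe : act (π (A.ψ k (up t))) (ev (ix hn (k + 1)) - t • ev (ix hn k)) = ev (ix hn (k + 1)) := by
    rw [hx, act_sub, single_act, levi_ev hne.symm, levi_ev hne.symm, if_pos rfl, if_neg hne.symm, zero_smul,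
      add_zero, add_sub_cancel_right]
  have hf' : act (π (A.ψ k (up t))) (act (π z) y) = fw (ix hn k) := by
    rw [hy, ← act_mul, ← act_mul, ← map_mul, ← map_mul]
    exact hf
  have ht' : t' = 0 := by
    have h1 : pol (act (π z) y) (fw (ix hn (k + 1))) = 0 := by
      rw [← pol_act (π (A.ψ k (up t))), hf', hxf, pol_fw_fw]
    have hz2 : act (π z) (act (π z⁻¹) (fw (ix hn (k + 1)))) = fw (ix hn (k + 1)) := by
      rw [← act_mul, ← map_mul, mul_inv_cancel, map_one, act_one]
    rw [pol_act' _ hz2, hzinv, hzi] at h1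
    simp only [pol] at h1 y2 y3
    rw [QuadraticMap.polar_add_right, QuadraticMap.polar_smul_right, y2, y3, zero_add, smul_eq_mul,
      mul_one] at h1
    simpa [hc] using h1
  have hz1 : z = 1 := by rw [hz, ht', up_zero, map_one, mul_one, mul_inv_cancel]
  have ht : t = 0 := by
    rw [hz1, map_one, act_one] at hf'
    have h1 : pol (fw (ix hn k)) (ev (ix hn (k + 1))) = pol y (ev (ix hn (k + 1)) - t • ev (ix hn k)) := by
      rw [← hf', pol_act' _ hxe]
    rw [pol_fw_ev, if_neg hne.symm] at h1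
    simp only [pol] at h1 y1 y3
    rw [QuadraticMap.polar_sub_right, QuadraticMap.polar_smul_right, y1, y3, smul_eq_mul, mul_one,
      zero_sub] at h1
    simpa using h1.symm
  rw [ht, up_zero, map_one, hz1, map_one, act_one, act_one] at hf'
  have ha1 : a' = 1 := hk a' ha' (by
    have := hy'.symm.trans hf'
    rw [← act_inv (node hn k wel) (act (π a') _), this, hwi])
  show A.ψ k (up t) * z * (A.rig.w k * a' * (A.rig.w k)⁻¹) = 1
  rw [ht, up_zero, map_one, hz1, ha1]
  group

theorem u_inj : ∀ d k, k + 3 + d = n → ∀ u ∈ A.rig.U k,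
    act (π u) (fw (ix hn k)) = fw (ix hn k) → u = 1
  | 0, k, hk => u_step hn A π hπ (by omega) (A.rig.stage (by omega) 0 k hk) (by
      intro u hu hf
      rw [DRig.B, if_pos (by omega)] at hu
      obtain ⟨a, ha, b, hb, rfl⟩ := mem_sup_prod
        ((A.rig.far (i := n - 2) (j := n - 1) (by omega) (by omega) (by omega)
          (by unfold DAdj; omega)).symm.mono le_sup_left le_sup_left).le_stab hu
      obtain ⟨_, ⟨t, rfl⟩, rfl⟩ := ha
      obtain ⟨_, ⟨t', rfl⟩, rfl⟩ := hb
      have hne : ix hn (n - 2) ≠ lst hn := lt_last hn (by omega)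
      have e : ix hn (n - 2 + 1) = lst hn := by rw [show n - 2 + 1 = n - 1 by omega]
      rw [show k + 1 = n - 2 by omega, map_mul, act_mul, hπ _ (by omega), hπ _ (by omega),
        (node_low_eq hn (i := n - 2) (by omega) t).1, (node_last_vals hn t').1, e, levi'_act, fw_flip hne,
        levi_fw hne, if_pos rfl, sub_flip, smul_flip, fw_flip hne, fw_flip_self, act_sub, single_act,
        levi_fw hne, if_pos rfl, levi_ev hne, if_pos rfl] at hf
      have h1 := congrFun hf (Sum.inr (lst hn))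
      have h2 := congrFun hf (Sum.inl (lst hn))
      simp [ev, fw, Pi.single_apply, hne, hne.symm] at h1 h2
      rw [h1, h2]
      simp [up_zero])
  | d + 1, k, hk => u_step hn A π hπ (by omega) (A.rig.stage (by omega) (d + 1) k hk) (by
      intro u hu hf
      rw [DRig.B, if_neg (by omega)] at hu
      exact u_inj d (k + 1) (by omega) u hu hf)

omit hπ in
theorem dg_commute (i j : Fin n) (hij : i ≠ j) (u v : Fˣ) :
    Commute (A.ψ i (dgHom u)) (A.ψ j (dgHom v)) := by
  by_cases h : DAdj n i j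
  · obtain ⟨Ψ, h1, h2⟩ := A.pair i.2 j.2 h
    rw [← h1, ← h2]
    simp only [MonoidHom.comp_apply]
    refine Commute.map ?_ Ψ
    apply Subtype.ext
    simp only [vMul, emb01_val, emb12_val, dgHom_val]
    ext a b
    fin_cases a <;> fin_cases b <;> simp [Matrix.mul_apply, Fin.sum_univ_three, mul_comm]
  · exact A.far i.2 j.2 (fun e => hij (Fin.ext e)) h _ _

omit hπ in
theorem dg_pairwise :
    Pairwise fun i j : Fin n => ∀ u v : Fˣ, Commute (((A.ψ i).comp dgHom) u) (((A.ψ j).comp dgHom) v) :=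
  fun i j hij u v => dg_commute A i j hij u v

/-- all of the torus -/
noncomputable def torHom : (Fin n → Fˣ) →* Γ :=
  MonoidHom.noncommPiCoprod (fun i : Fin n => (A.ψ i).comp dgHom) (dg_pairwise A)

omit hπ in
theorem torHom_single (i : Fin n) (u : Fˣ) : torHom A (Pi.mulSingle i u) = A.ψ i (dgHom u) :=
  MonoidHom.noncommPiCoprod_mulSingle (fun i : Fin n => (A.ψ i).comp dgHom) i u

omit hπ in
theorem pair_mul (i j : ℕ) (u v : Fˣ) : pair n i j (u * v) = pair n i j u * pair n i j v := by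
  unfold pair
  split_ifs <;> simp [mul_comm]

omit hπ in
theorem pair_one (i j : ℕ) : pair n i j (1 : Fˣ) = 1 := by
  unfold pair
  split_ifs <;> simp

theorem tor_act {j : ℕ} (hj : j < n) (c : Fin n → Fˣ) :
    act (π (torHom A c)) (ev (ix hn j)) = ((∏ i : Fin n, pair n i j (c i) : Fˣ) : F) • ev (ix hn j) := by
  classical
  let P : (Fin n → Fˣ) → Prop := fun c =>
    act (π (torHom A c)) (ev (ix hn j)) = ((∏ i : Fin n, pair n i j (c i) : Fˣ) : F) • ev (ix hn j)
  have h1 : P 1 := by
    show act (π (torHom A 1)) _ = _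
    rw [map_one, map_one, act_one, Finset.prod_eq_one (fun i _ => by rw [Pi.one_apply, pair_one]),
      Units.val_one, one_smul]
  have hm : ∀ a b, P a → P b → P (a * b) := by
    intro a b ha hb
    show act (π (torHom A (a * b))) _ = _
    simp only [P] at ha hb
    simp only [map_mul, act_mul, hb, single_act, ha, Pi.mul_apply, pair_mul, Finset.prod_mul_distrib,
      Units.val_mul, smul_smul]
    rw [mul_comm]
  rw [← Finset.univ_prod_mulSingle c]
  refine Finset.prod_induction (fun i => Pi.mulSingle i (c i)) P hm h1 fun i _ => ?_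
  show act (π (torHom A (Pi.mulSingle i (c i)))) _ = _
  rw [torHom_single, hπ _ i.2,
    (node_dg hn i.2 hj _).1, Finset.prod_eq_single i
      (fun b _ hb => by rw [Pi.mulSingle_eq_of_ne hb, pair_one])
      (fun h => absurd (Finset.mem_univ i) h), Pi.mulSingle_eq_same]

theorem tt_inj (hz : A.ψ (n - 2) (dgHom (-1 : Fˣ)) * A.ψ (n - 1) (dgHom (-1 : Fˣ)) = 1) {g : Γ}
    (hg : g ∈ A.TT) (h1 : π g = 1) : g = 1 := by
  classical
  have hle : A.TT ≤ (torHom A).range := A.TT_le fun i hi u =>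
    ⟨Pi.mulSingle ⟨i, hi⟩ u, torHom_single A ⟨i, hi⟩ u⟩
  obtain ⟨c, rfl⟩ := hle hg
  have hX : ∀ j, j < n → (∏ i : Fin n, pair n i j (c i)) = 1 := by
    intro j hj
    have := congrFun (tor_act hn A π hπ hj c) (Sum.inl (ix hn j))
    rw [h1, act_one] at this
    simp [ev] at this
    exact Units.ext (by simpa using this.symm)
  have low : ∀ j (hj : j + 3 ≤ n), c ⟨j, by omega⟩ = 1 := by
    intro j
    induction j using Nat.strong_induction_on with
    | _ j ih =>
      intro hj
      have h := hX j (by omega)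
      rwa [Finset.prod_eq_single (⟨j, by omega⟩ : Fin n), pair, if_neg (by simp; omega), if_pos rfl] at h
      · intro i _ hi
        have hi' : i.val ≠ j := fun e => hi (Fin.ext e)
        by_cases hp : i.val + 1 = j
        · rw [show c i = 1 from ih i.val (by omega) (by omega), pair_one]
        · unfold pair
          split_ifs <;> first | rfl | omega
      · exact fun h => absurd (Finset.mem_univ _) h
  set a : Fin n := ⟨n - 2, by omega⟩ with ha
  set b : Fin n := ⟨n - 1, by omega⟩ with hb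
  have hab : a ≠ b := by simp [ha, hb, Fin.ext_iff]; omega
  have rest : ∀ i : Fin n, i ≠ a → i ≠ b → c i = 1 := fun i h1 h2 => low i.val (by
    simp [ha, hb, Fin.ext_iff] at h1 h2; omega)
  have split : ∀ j, (∏ i : Fin n, pair n i j (c i)) = pair n (n - 2) j (c a) * pair n (n - 1) j (c b) :=
    fun j => by
      rw [Finset.prod_eq_mul a b hab (fun i _ hi => by rw [rest i hi.1 hi.2, pair_one])
        (fun h => absurd (Finset.mem_univ _) h) (fun h => absurd (Finset.mem_univ _) h)]
  have e1 := hX (n - 2) (by omega)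
  have e2 := hX (n - 1) (by omega)
  rw [split, pair, pair, if_neg (by omega), if_pos rfl, if_pos (by omega), if_pos (Or.inl rfl)] at e1
  rw [split, pair, pair, if_neg (by omega), if_neg (by omega), if_pos (by omega), if_pos (by omega),
    if_pos (Or.inr rfl)] at e2
  have hcb : c b = c a := by rwa [inv_mul_eq_one, eq_comm] at e2
  have hc : c = Pi.mulSingle a (c a) * Pi.mulSingle b (c b) := funext fun i => by
    by_cases hia : i = a
    · subst hia; simp [hab, hab.symm]
    by_cases hib : i = b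
    · subst hib; simp [hab, hab.symm]
    simp [rest i hia hib, hia, hib]
  rw [hc, map_mul, torHom_single, torHom_single, hcb]
  show A.ψ (n - 2) (dgHom (c a)) * A.ψ (n - 1) (dgHom (c a)) = 1
  rw [hcb, ← pow_two] at e1
  have hsq : ((c a : F) ) * (c a : F) = 1 := by
    rw [← Units.val_mul, ← pow_two, e1, Units.val_one]
  rcases mul_self_eq_one_iff.1 hsq with h | h
  · rw [show c a = 1 from Units.ext h, map_one, map_one, map_one, one_mul]
  · rw [show c a = -1 from Units.ext (by simp [h])]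
    exact hz

theorem base_inj (hz : A.ψ (n - 2) (dgHom (-1 : Fˣ)) * A.ψ (n - 1) (dgHom (-1 : Fˣ)) = 1) {g : Γ}
    (hg : g ∈ A.rig.Lv (n - 2)) (h1 : π g = 1) : g = 1 := by
  have hr : ∀ i, (A.ψ i).range = A.rig.X i ⊔ A.rig.Xm i := fun i => by
    rw [MonoidHom.range_eq_map, ← upS_sup_lowS, Subgroup.map_sup]
    rfl
  have hst : ∀ i, i < n → A.rig.TT ≤ stab (A.ψ i).range := fun i hi => by
    rw [hr]; exact stab_sup (A.rig.T_X hi) (A.rig.T_Xm hi)
  have hle : A.rig.Lv (n - 2) ≤ ((A.ψ (n - 2)).range ⊔ (A.ψ (n - 1)).range) ⊔ A.rig.TT :=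
    sup_le_sup_right (A.rig.Nd_le fun i hi hi' => by
      rcases (show i = n - 2 ∨ i = n - 1 by omega) with rfl | rfl <;> rw [hr, hr]
      · exact ⟨le_sup_left.trans le_sup_left, le_sup_right.trans le_sup_left⟩
      · exact ⟨le_sup_left.trans le_sup_right, le_sup_right.trans le_sup_right⟩) _
  obtain ⟨l, hl, t, ht, rfl⟩ := mem_sup_prod (stab_sup (hst _ (by omega)) (hst _ (by omega))) (hle hg)
  obtain ⟨_, ⟨x, rfl⟩, _, ⟨y, rfl⟩, rfl⟩ := mem_sup_prod (A := (A.ψ (n - 2)).range) (B := (A.ψ (n - 1)).range)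
    (CC.le_stab (by
      rintro _ ⟨y, rfl⟩ _ ⟨x, rfl⟩
      exact A.far (by omega) (by omega) (by omega) (by unfold DAdj; omega) y x)) hl
  have hne : ix hn (n - 2) ≠ lst hn := lt_last hn (by omega)
  have hne' := hne.symm
  have e : ix hn (n - 2 + 1) = lst hn := by rw [show n - 2 + 1 = n - 1 by omega]
  set p := ix hn (n - 2)
  set q := lst hn
  have upa : ∀ t : F, node hn (n - 2) (up t) = levi (T p q t) ∧ node hn (n - 2) (low t) = levi (T q p t) :=
    fun t => by
      have := node_low_eq (F := F) hn (i := n - 2) (by omega) t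
      rwa [e] at this
  obtain ⟨A0, A1⟩ := rho_act (node (F := F) hn (n - 2)) (ev p) (ev q)
    (fun t => ⟨by rw [(upa t).1, levi_ev hne, if_neg hne, zero_smul, add_zero],
      by rw [(upa t).1, levi_ev hne, if_pos rfl]⟩)
    (fun t => ⟨by rw [(upa t).2, levi_ev hne', if_pos rfl],
      by rw [(upa t).2, levi_ev hne', if_neg hne', zero_smul, add_zero]⟩) x
  obtain ⟨B0, B1⟩ := rho_act (node (F := F) hn (n - 2)) (fw q) (-fw p)
    (fun t => ⟨by rw [(upa t).1, levi_fw hne, if_neg hne', zero_smul, sub_zero],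
      by rw [(upa t).1, act_neg, levi_fw hne, if_pos rfl]; module⟩)
    (fun t => ⟨by rw [(upa t).2, levi_fw hne', if_pos rfl]; module,
      by rw [(upa t).2, act_neg, levi_fw hne', if_neg hne, zero_smul, sub_zero]⟩) x
  obtain ⟨C0, -⟩ := rho_act (node (F := F) hn (n - 1)) (ev p) (fw q)
    (fun t => ⟨by rw [(node_last_vals hn t).1, levi'_act, ev_flip hne, levi_ev hne, if_neg hne, zero_smul, add_zero, ev_flip hne],
      by rw [(node_last_vals hn t).1, levi'_act, fw_flip_self, levi_ev hne, if_pos rfl, add_flip, smul_flip, ev_flip_self, ev_flip hne]⟩)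
    (fun t => ⟨by rw [(node_last_vals hn t).2, levi'_act, ev_flip hne, levi_ev hne', if_pos rfl, add_flip, smul_flip, ev_flip hne, ev_flip_self],
      by rw [(node_last_vals hn t).2, levi'_act, fw_flip_self, levi_ev hne', if_neg hne', zero_smul, add_zero, ev_flip_self]⟩) y
  obtain ⟨-, D1⟩ := rho_act (node (F := F) hn (n - 1)) (ev q) (-fw p)
    (fun t => ⟨by rw [(node_last_vals hn t).1, levi'_act, ev_flip_self, levi_fw hne, if_neg hne', zero_smul, sub_zero, fw_flip_self],
      by rw [(node_last_vals hn t).1, act_neg, levi'_act, fw_flip hne, levi_fw hne, if_pos rfl, sub_flip, smul_flip, fw_flip hne, fw_flip_self]; module⟩)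
    (fun t => ⟨by rw [(node_last_vals hn t).2, levi'_act, ev_flip_self, levi_fw hne', if_pos rfl, sub_flip, smul_flip, fw_flip_self, fw_flip hne]; module,
      by rw [(node_last_vals hn t).2, act_neg, levi'_act, fw_flip hne, levi_fw hne', if_neg hne, zero_smul, sub_zero, fw_flip hne]⟩) y
  obtain ⟨⟨d, hd, hde⟩, ⟨d', hd', hdf⟩⟩ := tt_line hn A π hπ (j := n - 2) (by omega) ht
  have hg' : ∀ v, act (node hn (n - 2) x) (act (node hn (n - 1) y) (act (π t) v)) = v := fun v => by
    rw [← hπ _ (show n - 2 < n by omega), ← hπ _ (show n - 1 < n by omega), ← act_mul, ← act_mul, ← map_mul,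
      ← map_mul, h1, act_one]
  have e0 := hg' (ev p)
  have e1 := hg' (-fw p)
  rw [hde, single_act, C0, single_act, act_add, single_act, single_act, A0, B0] at e0
  rw [act_neg (π t), hdf, ← smul_neg, single_act, D1, single_act, act_add, single_act, single_act, A1, B1] at e1
  have a1 := congrFun e0 (Sum.inl p)
  have a2 := congrFun e0 (Sum.inl q)
  have a3 := congrFun e0 (Sum.inr q)
  have b1 := congrFun e1 (Sum.inr p)
  have b2 := congrFun e1 (Sum.inr q)
  have b3 := congrFun e1 (Sum.inl q)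
  simp [ev, fw, Pi.single_apply, hne, hne'] at a1 a2 a3 b1 b2 b3
  have x00 : x.1 0 0 ≠ 0 := fun h => by simp [h] at a1
  have y00 : y.1 0 0 ≠ 0 := fun h => by simp [h] at a1
  have x11 : x.1 1 1 ≠ 0 := fun h => by simp [h] at b1
  have y11 : y.1 1 1 ≠ 0 := fun h => by simp [h] at b1
  have x10 : x.1 1 0 = 0 := by simpa [hd, y00] using a2
  have y10 : y.1 1 0 = 0 := by simpa [hd, x00] using a3
  have x01 : x.1 0 1 = 0 := by simpa [hd', y11] using b2
  have y01 : y.1 0 1 = 0 := by simpa [hd', x11] using b3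
  have diag : ∀ z : SpecialLinearGroup (Fin 2) F, z.1 0 1 = 0 → z.1 1 0 = 0 → ∃ u : Fˣ, z = dgHom u := by
    intro z h01 h10
    have hdet := sl2_det z
    rw [h01, zero_mul, sub_zero] at hdet
    refine ⟨Units.mk0 (z.1 0 0) (fun h => by simp [h] at hdet), Subtype.ext ?_⟩
    rw [dgHom_val]
    ext i j
    fin_cases i <;> fin_cases j <;> simp [h01, h10]
    exact eq_inv_of_mul_eq_one_right hdet
  obtain ⟨u, rfl⟩ := diag x x01 x10
  obtain ⟨v, rfl⟩ := diag y y01 y10
  exact tt_inj hn A π hπ hz (mul_mem (mul_mem (A.dg_mem_TT (by omega) u) (A.dg_mem_TT (by omega) v)) ht) h1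

theorem lv_inj (hz : A.ψ (n - 2) (dgHom (-1 : Fˣ)) * A.ψ (n - 1) (dgHom (-1 : Fˣ)) = 1) :
    ∀ d k, k + 2 + d = n → ∀ g ∈ A.rig.Lv k, π g = 1 → g = 1
  | 0, k, hk, g, hg, h1 => base_inj hn A π hπ hz (by rwa [show n - 2 = k by omega]) h1
  | d + 1, k, hk, g, hg, h1 => by
    have st := A.rig.stage (show 3 ≤ n by omega) d k (by omega)
    have line : ∀ {a b w : Γ}, a ∈ A.rig.P k → b ∈ A.rig.P k → g = a * w * b →
        ∃ c : F, c ≠ 0 ∧ act (π w) (ev (ix hn k)) = c • ev (ix hn k) := fun {a b w} ha hb e => by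
      have hw : π w = π (a⁻¹ * b⁻¹) := by
        rw [show w = a⁻¹ * g * b⁻¹ by rw [e]; group]
        simp [h1]
      rw [hw]
      exact p_line hn A π hπ (by omega) (mul_mem (inv_mem ha) (inv_mem hb))
    have hne : ix hn (k + 1) ≠ ix hn k := ix_ne hn (by omega) (by omega) (by omega)
    rcases st.cover g hg with h | ⟨a, ha, b, hb, e⟩ | ⟨a, ha, b, hb, e⟩
    · obtain ⟨u, hu, l, hl, rfl⟩ := mem_sup_prod (A.rig.Lv_stab_U k) (show g ∈ A.rig.U k ⊔ A.rig.Lv (k + 1) from h)
      obtain ⟨c, -, hc⟩ := (lv_line hn A π hπ (Nat.lt_succ_self k) (by omega) hl).2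
      have huf : c • act (π u) (fw (ix hn k)) = fw (ix hn k) := by
        rw [← single_act, ← hc, ← act_mul, ← map_mul, h1, act_one]
      have hue : act (π u) (ev (ix hn k)) = ev (ix hn k) := u_fix hn A π hπ (by omega) hu
      have hc1 : c = 1 := by
        have := congrArg (fun v => pol v (ev (ix hn k))) huf
        simp only [pol, QuadraticMap.polar_smul_left, smul_eq_mul] at this
        rw [show QuadraticMap.polar (qPlus F n) (act (π u) (fw (ix hn k))) (ev (ix hn k)) = 1 by
            rw [show QuadraticMap.polar (qPlus F n) (act (π u) (fw (ix hn k))) (ev (ix hn k)) =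
              pol (act (π u) (fw (ix hn k))) (ev (ix hn k)) from rfl, pol_act' _ hue, pol_fw_ev, if_pos rfl],
          show QuadraticMap.polar (qPlus F n) (fw (ix hn k)) (ev (ix hn k)) = 1 by
            rw [show QuadraticMap.polar (qPlus F n) (fw (ix hn k)) (ev (ix hn k)) =
              pol (fw (ix hn k)) (ev (ix hn k)) from rfl, pol_fw_ev, if_pos rfl], mul_one] at this
        exact this
      rw [hc1, one_smul] at huf
      have hu1 := u_inj hn A π hπ d k (by omega) u hu huf
      subst hu1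
      rw [one_mul] at h1 ⊢
      exact lv_inj hz d (k + 1) (by omega) l hl h1
    · exfalso
      obtain ⟨c, hc, hw⟩ := line ha hb e
      change act (π (A.ψ k wel)) _ = _ at hw
      rw [hπ k (by omega), (wel_k hn (by omega)).1] at hw
      have := congrFun hw (Sum.inl (ix hn k))
      simp [ev, Pi.single_apply, hne.symm] at this
      exact hc this.symm
    · exfalso
      obtain ⟨c, hc, hw⟩ := line ha hb e
      obtain ⟨c', hc', e'⟩ := mm_act hn A π hπ (n - 2 - k) (by omega)
      rw [show n - 2 - (n - 2 - k) = k by omega] at e'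
      have := congrFun (e'.symm.trans hw) (Sum.inl (ix hn k))
      simp [ev, fw, Pi.single_apply] at this
      exact hc this.symm

/-- The projection is injective on the group generated by the family. -/
theorem fam_inj (hz : A.ψ (n - 2) (dgHom (-1 : Fˣ)) * A.ψ (n - 1) (dgHom (-1 : Fˣ)) = 1) :
    ∀ g ∈ ⨆ (i) (_ : i < n), (A.ψ i).range, π g = 1 → g = 1 := by
  intro g hg h1
  have hle : (⨆ (i) (_ : i < n), (A.ψ i).range) ≤ A.rig.Lv 0 := iSup₂_le fun i hi => A.range_le_Lv hi
  have hg' : g ∈ A.rig.Lv 0 := hle hg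
  exact lv_inj hn A π hπ hz (n - 2) 0 (show 0 + 2 + (n - 2) = n by omega) g hg' h1

end Family

end Cfsg.Agent.OmegaPres
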