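import Cfsg.Agent.Lib.OmegaPres.Rels
import Cfsg.Agent.Lib.SLShort.Main
import Cfsg.Agent.Lib.Orthogonal.POmega

/-!
A presentation of `Ω⁺(2n, q)` from one of `SLₙ(q)`, with one more generator.
-/

set_option autoImplicit false
set_option linter.unusedSectionVars false
set_option linter.unusedSimpArgs false
set_option linter.style.haveILetI false
set_option maxHeartbeats 1000000

namespace Cfsg.Agent.OmegaPres

open Equiv Cfsg.Agent.BoundedPres
open Cfsg.Agent.CTRec.DModel (T levi Iso)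
open Cfsg.Agent.SLShort (theta theta_up)
open SL2Pres (up low)
open Cfsg.Agent.Orth (qPlus qPlus_nondeg center_omega_iff)
open scoped commutatorElement

section stab

variable {n : ℕ} (hn : 4 ≤ n)

/-- A sign turned into the exchange of the last pair. -/
def c23 : ℤˣ →* Perm (Fin n) where
  toFun e := if e = 1 then 1 else swap (pt hn 2) (pt hn 3)
  map_one' := if_pos rfl
  map_mul' a b := by
    rcases Int.units_eq_one_or a with rfl | rfl <;> rcases Int.units_eq_one_or b with rfl | rfl <;> simp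

theorem ofSubtype_fix (τ : Perm {x : Fin n // x ≠ pt hn 2 ∧ x ≠ pt hn 3}) :
    Perm.ofSubtype τ (pt hn 2) = pt hn 2 ∧ Perm.ofSubtype τ (pt hn 3) = pt hn 3 :=
  ⟨Perm.ofSubtype_apply_of_not_mem τ fun hh => hh.1 rfl, Perm.ofSubtype_apply_of_not_mem τ fun hh => hh.2 rfl⟩

theorem c23_comm (τ : Perm {x : Fin n // x ≠ pt hn 2 ∧ x ≠ pt hn 3}) (e : ℤˣ) :
    Commute (Perm.ofSubtype τ) (c23 hn e) := by
  show Commute _ (if e = 1 then 1 else _)
  split_ifs
  · exact Commute.one_right _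
  · show _ * _ = _ * _
    rw [Equiv.mul_swap_eq_swap_mul, (ofSubtype_fix hn τ).1, (ofSubtype_fix hn τ).2]

/-- A permutation of the other points, made even on the last pair. -/
def lift23 : Perm {x : Fin n // x ≠ pt hn 2 ∧ x ≠ pt hn 3} →* alternatingGroup (Fin n) :=
  MonoidHom.mk' (fun τ => ⟨Perm.ofSubtype τ * c23 hn (Perm.sign τ), Perm.mem_alternatingGroup.2 (by
      rw [map_mul, Perm.sign_ofSubtype]
      rcases Int.units_eq_one_or (Perm.sign τ) with e | e <;> rw [e] <;>
        simp [c23, Perm.sign_swap ((pt_inj hn).ne (show (2 : Fin 4) ≠ 3 by decide))])⟩)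
    fun a b => Subtype.ext (by
      show Perm.ofSubtype (a * b) * c23 hn (Perm.sign (a * b)) =
        Perm.ofSubtype a * c23 hn (Perm.sign a) * (Perm.ofSubtype b * c23 hn (Perm.sign b))
      rw [map_mul, map_mul, map_mul, mul_assoc, mul_assoc, ← mul_assoc (Perm.ofSubtype b),
        (c23_comm hn b (Perm.sign a)).eq, mul_assoc])

theorem lift23_stab (τ : Perm {x : Fin n // x ≠ pt hn 2 ∧ x ≠ pt hn 3}) : Stab23 hn (lift23 hn τ) := by
  obtain ⟨a, b⟩ := ofSubtype_fix hn τ
  show _ ∨ _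
  have e : (lift23 hn τ : Perm (Fin n)) = Perm.ofSubtype τ * c23 hn (Perm.sign τ) := rfl
  rw [e]
  rcases Int.units_eq_one_or (Perm.sign τ) with h | h <;> rw [h]
  · exact Or.inl ⟨by simp [a], by simp [b]⟩
  · exact Or.inr ⟨by simp [c23, a, b], by simp [c23, a, b]⟩

theorem exists_fixer (π : Perm (Fin n)) (h2 : π (pt hn 2) = pt hn 2) (h3 : π (pt hn 3) = pt hn 3) :
    ∃ τ : Perm {x : Fin n // x ≠ pt hn 2 ∧ x ≠ pt hn 3}, Perm.ofSubtype τ = π ∧ Perm.sign τ = Perm.sign π := by
  have hh : ∀ x, (π x ≠ pt hn 2 ∧ π x ≠ pt hn 3) ↔ (x ≠ pt hn 2 ∧ x ≠ pt hn 3) := by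
    intro x
    have a : π x = pt hn 2 ↔ x = pt hn 2 := by conv_lhs => rw [← h2, EmbeddingLike.apply_eq_iff_eq]
    have b : π x = pt hn 3 ↔ x = pt hn 3 := by conv_lhs => rw [← h3, EmbeddingLike.apply_eq_iff_eq]
    rw [Ne, Ne, a, b]
  let τ : Perm {x : Fin n // x ≠ pt hn 2 ∧ x ≠ pt hn 3} := π.subtypePerm hh
  have e : Perm.ofSubtype τ = π := Perm.ofSubtype_subtypePerm _ fun x hx => by
    constructor <;> rintro rfl <;> contradiction
  exact ⟨τ, e, by rw [← Perm.sign_ofSubtype, e]⟩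

theorem exists_lift23 {σ : alternatingGroup (Fin n)} (h : Stab23 hn σ) : ∃ τ, lift23 hn τ = σ := by
  have hs : Perm.sign (σ : Perm (Fin n)) = 1 := Perm.mem_alternatingGroup.1 σ.2
  rcases h with ⟨a, b⟩ | ⟨a, b⟩
  · obtain ⟨τ, e, es⟩ := exists_fixer hn _ a b
    refine ⟨τ, Subtype.ext ?_⟩
    show Perm.ofSubtype τ * c23 hn (Perm.sign τ) = _
    rw [es, hs, map_one, mul_one, e]
  · obtain ⟨τ, e, es⟩ := exists_fixer hn ((σ : Perm (Fin n)) * swap (pt hn 2) (pt hn 3))
      (by simp [b]) (by simp [a])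
    refine ⟨τ, Subtype.ext ?_⟩
    show Perm.ofSubtype τ * c23 hn (Perm.sign τ) = _
    rw [es, map_mul, hs, one_mul, Perm.sign_swap ((pt_inj hn).ne (show (2 : Fin 4) ≠ 3 by decide)), e]
    rw [show c23 hn (-1) = swap (pt hn 2) (pt hn 3) by simp [c23], mul_assoc, swap_mul_self, mul_one]

/-- Generators of the stabiliser of the last pair. -/
theorem exists_stab_gens :
    ∃ Gst : Finset (alternatingGroup (Fin n)), Gst.card ≤ (if n = 4 then 1 else 2) ∧
      (∀ σ ∈ (Gst : Set (alternatingGroup (Fin n))), Stab23 hn σ) ∧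
      ∀ σ, Stab23 hn σ → σ ∈ Subgroup.closure (Gst : Set (alternatingGroup (Fin n))) := by
  classical
  by_cases h4 : n = 4
  · subst h4
    refine ⟨{ga hn}, by simp, fun σ hσ => ?_, fun σ h => ?_⟩
    · rw [Finset.coe_singleton, Set.mem_singleton_iff] at hσ
      rw [hσ]
      exact Or.inr (ga2 hn)
    · have hp : ∀ a, pt hn a = a := fun a => rfl
      have key : ∀ π : Perm (Fin 4), Perm.sign π = 1 → ((π 2 = 2 ∧ π 3 = 3) ∨ (π 2 = 3 ∧ π 3 = 2)) →
          π = 1 ∨ π = swap 0 1 * swap 2 3 := by decide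
      rcases key σ (Perm.mem_alternatingGroup.1 σ.2) (by simpa [Stab23, hp] using h) with e | e
      · rw [show σ = 1 from Subtype.ext e]; exact one_mem _
      · rw [show σ = ga hn from Subtype.ext (by rw [e]; simp [ga, dswap, hp])]
        exact Subgroup.subset_closure (by simp)
  · obtain ⟨g, hg, htop⟩ := exists_perm_gens {x : Fin n // x ≠ pt hn 2 ∧ x ≠ pt hn 3}
    refine ⟨g.image (lift23 hn), by rw [if_neg h4]; exact Finset.card_image_le.trans hg, ?_, fun σ h => ?_⟩
    · simp only [Finset.coe_image, Set.forall_mem_image]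
      exact fun τ _ => lift23_stab hn τ
    · obtain ⟨τ, rfl⟩ := exists_lift23 hn h
      rw [Finset.coe_image, ← MonoidHom.map_closure, htop]
      exact ⟨τ, trivial, rfl⟩

end stab

variable {F : Type*} [Field F] [Finite F]

/-- The test elements. -/
theorem exists_tests :
    ∃ (u : Matrix.SpecialLinearGroup (Fin 2) F) (T' : Finset (Matrix.SpecialLinearGroup (Fin 2) F)),
      Subgroup.closure ({u, theta u} : Set (Matrix.SpecialLinearGroup (Fin 2) F)) = ⊤ ∧
      Tests u (T' : Set (Matrix.SpecialLinearGroup (Fin 2) F)) ∧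
      T'.card ≤ if Nat.card F = 9 then 2 else 1 := by
  classical
  obtain ⟨u, hu, hform⟩ := SLShort.exists_theta_gen_form (F := F)
  by_cases h9 : Nat.card F = 9
  · exact ⟨u, {u, theta u}, hu, ⟨by simp, Or.inr (Or.inr (by simp))⟩, by rw [if_pos h9]; exact Finset.card_le_two⟩
  refine ⟨u, {u}, hu, ⟨by simp, ?_⟩, by rw [if_neg h9]; simp⟩
  rcases hform with ⟨t, rfl⟩ | h2 | h
  · refine Or.inr (Or.inl ?_)
    rw [theta_up, ws_up]
    refine eq_inv_of_mul_eq_one_left (Subtype.ext ?_)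
    rw [Matrix.SpecialLinearGroup.coe_mul, SL2Pres.low_val, SL2Pres.low_val, Matrix.SpecialLinearGroup.coe_one]
    simp [Matrix.mul_fin_two, Matrix.one_fin_two]
  · refine Or.inl ?_
    show theta (CTRec.dTw u) = theta u
    congr 1
    have hneg : ∀ x : F, -x = x := fun x => by linear_combination (-x) * h2
    refine Subtype.ext ?_
    rw [CTRec.dTw_val, hneg, hneg]
    exact (Matrix.eta_fin_two u.1).symm
  · exact absurd h h9

section words

variable {n : ℕ} (hn : 4 ≤ n) {α : Type*} (W : Matrix.SpecialLinearGroup (Fin n) F → FreeGroup α) (Sx : FreeGroup α)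

/-- The word for a conjugate of the sign change. -/
noncomputable def Cw (σ : alternatingGroup (Fin n)) : FreeGroup α := W (pm n F σ) * Sx * (W (pm n F σ))⁻¹

/-- The word for the first rank one subgroup. -/
noncomputable def Ph (x : Matrix.SpecialLinearGroup (Fin 2) F) : FreeGroup α := W (i3 F hn (s01 F x))

/-- The word for the far rank one subgroup. -/
noncomputable def Pf (x : Matrix.SpecialLinearGroup (Fin 2) F) : FreeGroup α :=
  W (pm n F (gb hn)) * Ph hn W x * (W (pm n F (gb hn)))⁻¹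

open scoped Classical in
/-- The extra relators. -/
noncomputable def relSet (u : Matrix.SpecialLinearGroup (Fin 2) F) (Gst : Finset (alternatingGroup (Fin n)))
    (T' : Finset (Matrix.SpecialLinearGroup (Fin 2) F)) : Finset (FreeGroup α) :=
  Gst.image (fun σ => ⁅Sx, W (pm n F σ)⁆) ∪ {Cw W Sx (gb hn) * Cw W Sx (c12 hn) * (Cw W Sx (c02 hn))⁻¹} ∪
    (if n = 4 then {Sx * Sx} else ∅) ∪
    {⁅Sx, Ph hn W u⁆} ∪ {Cw W Sx (gb hn) * Ph hn W u * Cw W Sx (gb hn) * (Ph hn W (ws u))⁻¹} ∪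
    T'.image (fun t => ⁅Ph hn W u, Cw W Sx (c12 hn) * Ph hn W t * Cw W Sx (c12 hn)⁆) ∪
    (if n = 4 then T'.image (fun t => ⁅Ph hn W u, Cw W Sx (c12 hn) * Pf hn W t * Cw W Sx (c12 hn)⁆) else ∅)

variable {W Sx} {u : Matrix.SpecialLinearGroup (Fin 2) F} {Gst : Finset (alternatingGroup (Fin n))}
  {T' : Finset (Matrix.SpecialLinearGroup (Fin 2) F)}

theorem relSet_card {a c : ℕ} (hG : Gst.card ≤ a) (hT : T'.card ≤ c) :
    (relSet hn W Sx u Gst T').card ≤ a + 1 + (if n = 4 then 1 else 0) + 1 + 1 + c + (if n = 4 then c else 0) := by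
  classical
  unfold relSet
  exact (Finset.card_union_le _ _).trans (Nat.add_le_add ((Finset.card_union_le _ _).trans
    (Nat.add_le_add ((Finset.card_union_le _ _).trans (Nat.add_le_add ((Finset.card_union_le _ _).trans
    (Nat.add_le_add ((Finset.card_union_le _ _).trans (Nat.add_le_add ((Finset.card_union_le _ _).trans
    (Nat.add_le_add (Finset.card_image_le.trans hG) (le_of_eq (Finset.card_singleton _))))
    (by split_ifs <;> simp)))
    (le_of_eq (Finset.card_singleton _)))) (le_of_eq (Finset.card_singleton _))))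
    (Finset.card_image_le.trans hT)))
    (by
      split_ifs
      · exact Finset.card_image_le.trans hT
      · simp))

theorem rel_iff {G : Type*} [Group G] (φ : FreeGroup α →* G) (f : Matrix.SpecialLinearGroup (Fin n) F →* G)
    (s : G) (hW : ∀ x, φ (W x) = f x) (hS : φ Sx = s) :
    (∀ r ∈ relSet hn W Sx u Gst T', φ r = 1) ↔
      Few hn f s u (Gst : Set (alternatingGroup (Fin n))) (T' : Set (Matrix.SpecialLinearGroup (Fin 2) F)) := by
  classical
  have hC : ∀ σ, φ (Cw W Sx σ) = cs f s σ := fun σ => by simp only [Cw, cs, map_mul, map_inv, hW, hS]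
  have hP : ∀ x, φ (Ph hn W x) = phi hn f x := fun x => hW _
  have hP' : ∀ x, φ (Pf hn W x) = phi23 hn f x := fun x => by
    simp only [Pf, phi23, map_mul, map_inv, hW, hP]
  simp only [relSet, Finset.mem_union, or_imp, forall_and, Finset.mem_singleton, forall_eq, Finset.forall_mem_image,
    apply_ite (fun S : Finset (FreeGroup α) => ∀ r ∈ S, φ r = 1), Finset.notMem_empty, false_implies, implies_true,
    map_commutatorElement, map_mul, map_inv, hS, hW, hC, hP, hP', commutatorElement_eq_one_iff_commute, mul_inv_eq_one]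
  constructor
  · rintro ⟨⟨⟨⟨⟨⟨h1, h2⟩, h3⟩, h4⟩, h5⟩, h6⟩, h7⟩
    exact ⟨fun σ hσ => h1 (Finset.mem_coe.1 hσ), h2,
      fun e => by simpa [hS, e] using h3, h4, h5, fun t ht => h6 (Finset.mem_coe.1 ht),
      fun e t ht => by
        simp only [if_pos e] at h7
        exact h7 (Finset.mem_coe.1 ht)⟩
  · intro Q
    refine ⟨⟨⟨⟨⟨⟨fun σ hσ => Q.st σ (Finset.mem_coe.2 hσ), Q.tri⟩, ?_⟩, Q.fix⟩, Q.inv⟩,
      fun t ht => Q.same t (Finset.mem_coe.2 ht)⟩, ?_⟩
    · by_cases e : n = 4
      · simpa [hS, e] using Q.sq e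
      · simp [e]
    · by_cases e : n = 4
      · simp only [if_pos e, Finset.forall_mem_image]
        intro t ht
        simpa [hC, hP, hP', commutatorElement_eq_one_iff_commute] using Q.far e t (Finset.mem_coe.2 ht)
      · simp [e]

end words

variable {n : ℕ}

set_option maxHeartbeats 2000000 in
/-- One generator and a few relations more than `SLₙ`. -/
theorem omega_pres (hn : 4 ≤ n) {k : ℕ} (R₀ : Finset (FreeGroup (Fin k)))
    (e : PresentedGroup (↑R₀ : Set (FreeGroup (Fin k))) ≃* Matrix.SpecialLinearGroup (Fin n) F) :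
    ∃ R : Finset (FreeGroup (Fin k ⊕ Unit)),
      R.card ≤ R₀.card + ((if n = 4 then 1 else 2) + 1 + (if n = 4 then 1 else 0) + 1 + 1 +
        (if Nat.card F = 9 then 2 else 1) + (if n = 4 then (if Nat.card F = 9 then 2 else 1) else 0)) ∧
      Nonempty (PresentedGroup (↑R : Set (FreeGroup (Fin k ⊕ Unit))) ≃* ↥(Cfsg.Omega F (⇑(qPlus F n)))) := by
  classical
  obtain ⟨Gst, hGc, hGs, hG⟩ := exists_stab_gens hn
  obtain ⟨u, T', hu, hT, hTc⟩ := exists_tests (F := F)
  have h23 : pt hn 2 ≠ pt hn 3 := (pt_inj hn).ne (by decide)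
  let lev : Matrix.SpecialLinearGroup (Fin n) F →* ↥(Cfsg.Omega F (⇑(qPlus F n))) :=
    (levi (F := F) (n := n)).codRestrict _ (levi_mem hn)
  let v₀ : Fin k → Matrix.SpecialLinearGroup (Fin n) F := fun i => e (PresentedGroup.of i)
  let v : Fin k ⊕ Unit → ↥(Cfsg.Omega F (⇑(qPlus F n))) :=
    Sum.elim (fun i => lev (v₀ i)) fun _ => ⟨sgn F n (pt hn 2) (pt hn 3), sgn_mem hn h23⟩
  have hl₀ : FreeGroup.lift v₀ = e.toMonoidHom.comp (PresentedGroup.mk _) :=
    FreeGroup.ext_hom _ _ fun i => by rw [FreeGroup.lift_apply_of]; rfl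
  have hgen₀ : Subgroup.closure (Set.range v₀) = ⊤ := by
    rw [show Set.range v₀ = e.toMonoidHom '' Set.range PresentedGroup.of by rw [← Set.range_comp]; rfl,
      ← MonoidHom.map_closure, PresentedGroup.closure_range_of, Subgroup.map_top_of_surjective _ e.surjective]
  choose pre hpre using fun x => exists_word v₀ (t := x) (hgen₀ ▸ Subgroup.mem_top x)
  let W : Matrix.SpecialLinearGroup (Fin n) F → FreeGroup (Fin k ⊕ Unit) := fun x =>
    FreeGroup.map Sum.inl (pre x)
  let Sx : FreeGroup (Fin k ⊕ Unit) := FreeGroup.of (Sum.inr ())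
  have hWv : ∀ x, FreeGroup.lift v (W x) = lev x := fun x => by
    refine (DFunLike.congr_fun (f := (FreeGroup.lift v).comp (FreeGroup.map Sum.inl))
      (g := lev.comp (FreeGroup.lift v₀)) (FreeGroup.ext_hom _ _ fun i => by simp [v]) (pre x)).trans ?_
    rw [MonoidHom.comp_apply, hpre]
  refine ⟨R₀.image (FreeGroup.map Sum.inl) ∪ relSet hn W Sx u Gst T', ?_, ?_⟩
  · exact (Finset.card_union_le _ _).trans (Nat.add_le_add Finset.card_image_le (relSet_card hn hGc hTc))
  refine (exists_equiv _ v ?_ ?_ ?_).elim fun e' _ => ⟨e'⟩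
  · intro r hr
    rcases Finset.mem_union.1 hr with hr | hr
    · obtain ⟨y, hy, rfl⟩ := Finset.mem_image.1 hr
      refine (DFunLike.congr_fun (f := (FreeGroup.lift v).comp (FreeGroup.map Sum.inl))
        (g := lev.comp (FreeGroup.lift v₀)) (FreeGroup.ext_hom _ _ fun i => by simp [v]) y).trans ?_
      rw [MonoidHom.comp_apply, hl₀, MonoidHom.comp_apply, PresentedGroup.one_of_mem (Finset.mem_coe.2 hy),
        map_one, map_one]
    · let ι := (Cfsg.Omega F (⇑(qPlus F n))).subtype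
      have hc : FreeGroup.lift (ι ∘ v) = ι.comp (FreeGroup.lift v) := FreeGroup.ext_hom _ _ fun i => by simp
      have Q := (rel_iff hn (FreeGroup.lift (ι ∘ v)) (levi (F := F) (n := n)) (sgn F n (pt hn 2) (pt hn 3))
        (fun x => by rw [hc, MonoidHom.comp_apply, hWv]; rfl) FreeGroup.lift_apply_of).2
        (few (model (F := F) (n := n)) u _ hGs _) r hr
      rw [hc, MonoidHom.comp_apply] at Q
      exact Subtype.ext Q
  · set C := (Subgroup.closure (Set.range v)).map (Cfsg.Omega F (⇑(qPlus F n))).subtype with hC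
    have hs : sgn F n (pt hn 2) (pt hn 3) ∈ C := ⟨_, Subgroup.subset_closure ⟨Sum.inr (), rfl⟩, rfl⟩
    have hl : ∀ x, (levi x : Iso F n) ∈ C := fun x => ⟨_, hWv x ▸ lift_mem_closure v (W x), rfl⟩
    have hsg : ∀ {a b : Fin n}, a ≠ b → sgn F n a b ∈ C := by
      intro a b hab
      obtain ⟨σ, h2, h3⟩ := exists_to hn hab
      rw [← h2, ← h3, ← (model (F := F) (n := n)).cov σ h23]
      exact mul_mem (mul_mem (hl _) hs) (inv_mem (hl _))
    have hle : Cfsg.Omega F (⇑(qPlus F n)) ≤ C := by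
      rw [← fgen_model hn]
      refine iSup₂_le fun i hi => ?_
      rintro _ ⟨x, rfl⟩
      by_cases h : i + 1 = n
      · obtain rfl : i = n - 1 := by omega
        rw [fψ_last hn (model (F := F) (n := n))]
        exact mul_mem (mul_mem (hsg (fst_ne_lst hn)) (hl _)) (hsg (fst_ne_lst hn))
      · rw [fψ_low hn _ _ (by omega)]
        exact hl _
    rw [eq_top_iff]
    rintro x -
    obtain ⟨y, hy, hyx⟩ := hle x.2
    obtain rfl : y = x := Subtype.ext hyx
    exact hy
  · intro G _ w hw _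
    have hw' : ∀ x ∈ (↑R₀ : Set (FreeGroup (Fin k))), FreeGroup.lift (w ∘ Sum.inl) x = 1 := fun x hx => by
      rw [show FreeGroup.lift (w ∘ Sum.inl) = (FreeGroup.lift w).comp (FreeGroup.map Sum.inl) from
        FreeGroup.ext_hom _ _ fun i => by simp]
      exact hw _ (Finset.mem_union_left _ (Finset.mem_image_of_mem _ (Finset.mem_coe.1 hx)))
    let f : Matrix.SpecialLinearGroup (Fin n) F →* G := (PresentedGroup.toGroup hw').comp e.symm.toMonoidHom
    have hf : ∀ i, f (v₀ i) = w (Sum.inl i) := fun i => by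
      show PresentedGroup.toGroup hw' (e.symm (e _)) = _
      rw [e.symm_apply_apply, PresentedGroup.toGroup.of]
      rfl
    have hW : ∀ x, FreeGroup.lift w (W x) = f x := fun x => by
      refine (DFunLike.congr_fun (f := (FreeGroup.lift w).comp (FreeGroup.map Sum.inl))
        (g := f.comp (FreeGroup.lift v₀)) (FreeGroup.ext_hom _ _ fun i => by simp [hf]) (pre x)).trans ?_
      rw [MonoidHom.comp_apply, hpre]
    have Q := (rel_iff hn (FreeGroup.lift w) f (w (Sum.inr ())) hW FreeGroup.lift_apply_of).1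
      fun r hr => hw r (Finset.mem_union_right _ hr)
    obtain ⟨φ, hφ1, hφ2⟩ := omega_hom hn (srel Q hG hu hT)
    refine ⟨φ, ?_⟩
    rintro (i | ⟨⟩)
    · exact (hφ1 (v₀ i)).trans (hf i)
    · exact (hφ2 _ _ h23).trans (S23 Q hG)

/-- The count. -/
theorem omega_count (hn : 4 ≤ n) {b r : ℕ} (h : SLShort.AltPres n b r) (hb : 3 + b + 1 ≤ 8) {N : ℕ}
    (hN : (if Nat.card F = 9 then 12 else 13) + r + 1 + min 2 (n - 2 - 2) + (if 6 ≤ n then 1 else 2) +
      ((if n = 4 then 1 else 2) + 1 + (if n = 4 then 1 else 0) + 1 + 1 +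
        (if Nat.card F = 9 then 2 else 1) + (if n = 4 then (if Nat.card F = 9 then 2 else 1) else 0)) +
      (4 - b) ≤ N) :
    (∃ R : Finset (FreeGroup (Fin 8)), R.card ≤ N ∧
      Nonempty (PresentedGroup (↑R : Set (FreeGroup (Fin 8))) ≃* ↥(Cfsg.Omega F (⇑(qPlus F n))))) ∧
    ∃ R : Finset (FreeGroup (Fin 8)), R.card ≤ N + 1 ∧
      Nonempty (PresentedGroup (↑R : Set (FreeGroup (Fin 8))) ≃* Cfsg.POmega F (⇑(qPlus F n))) := by
  classical
  obtain ⟨j, hcore⟩ := SLShort.main_count (K := F)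
  obtain ⟨R₀, hR₀, ⟨e⟩⟩ := SLShort.sl_count_core (m := 3 + b) hcore hn h le_rfl le_rfl
  obtain ⟨R, hR, he⟩ := omega_pres hn R₀ e
  obtain ⟨S, hS, hSe⟩ := SLShort.pad he (m := 8) (by simp; omega)
  have hSN : S.card ≤ N := by
    simp only [Fintype.card_sum, Fintype.card_fin, Fintype.card_unit] at hS
    omega
  refine ⟨⟨S, hSN, hSe⟩, ?_⟩
  haveI := Fintype.ofFinite F
  have hQ := qPlus_nondeg (F := F) n
  have hι : 7 ≤ Fintype.card (Fin n ⊕ Fin n) := by simp; omega
  obtain ⟨z, hz, hN'⟩ : ∃ z ∈ Subgroup.center ↥(Cfsg.Omega F (⇑(qPlus F n))),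
      Subgroup.center ↥(Cfsg.Omega F (⇑(qPlus F n))) ≤ Subgroup.zpowers z := by
    have one : ∀ g : ↥(Cfsg.Omega F (⇑(qPlus F n))), g ∈ Subgroup.center ↥(Cfsg.Omega F (⇑(qPlus F n))) →
        g ≠ 1 → ((g.1 : GL (Fin n ⊕ Fin n) F) : Matrix (Fin n ⊕ Fin n) (Fin n ⊕ Fin n) F) =
          (-1 : F) • (1 : Matrix (Fin n ⊕ Fin n) (Fin n ⊕ Fin n) F) := by
      intro g hg hg1
      obtain ⟨a, ha, hga⟩ := (center_omega_iff hQ hι g).1 hg
      rcases mul_self_eq_one_iff.1 ha with rfl | rfl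
      · exact absurd (Subtype.ext (Subtype.ext (Units.ext (by rw [hga, one_smul]; rfl)))) hg1
      · exact hga
    by_cases hex : ∃ g ∈ Subgroup.center ↥(Cfsg.Omega F (⇑(qPlus F n))), g ≠ 1
    · obtain ⟨z, hz, hz1⟩ := hex
      refine ⟨z, hz, fun g hg => ?_⟩
      by_cases hg1 : g = 1
      · exact hg1 ▸ one_mem _
      · rw [show g = z from Subtype.ext (Subtype.ext (Units.ext ((one g hg hg1).trans (one z hz hz1).symm)))]
        exact Subgroup.mem_zpowers z
    · push Not at hex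
      exact ⟨1, one_mem _, fun g hg => by rw [hex g hg]; exact one_mem _⟩
  obtain ⟨S', hS', hS'e⟩ := SLShort.quot_pres hSe (Subgroup.center _) z hz hN'
  exact ⟨S', hS'.trans (by omega), hS'e⟩

end Cfsg.Agent.OmegaPres
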