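import Cfsg.Agent.Lib.OmegaPres.Signs
import Cfsg.Agent.Lib.SLShort.Glue

/-!
A few relations on one sign change imply all.
-/

set_option autoImplicit false
set_option linter.unusedSectionVars false
set_option linter.unusedSimpArgs false
set_option maxHeartbeats 1000000

namespace Cfsg.Agent.OmegaPres

open Equiv Cfsg.Agent.BoundedPres
open Cfsg.Agent.CTRec (dTw dTw_up dTw_low dTw_val dTw_dTw CC upS lowS)
open Cfsg.Agent.SLShort (theta theta_val theta_theta theta_up theta_low s10_eq ga_gb ga_sq)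
open SL2Pres (up low)
open Cfsg.Agent.CTRec.DModel (T)

variable {F : Type*} [Field F]

local notation "SL2" => Matrix.SpecialLinearGroup (Fin 2) F

/-- Conjugation by the reflecting element. -/
def ws : SL2 →* SL2 := theta.comp dTw

theorem ws_up (t : F) : ws (up t) = low (-t) := by rw [ws, MonoidHom.comp_apply, dTw_up, theta_up]

theorem ws_low (t : F) : ws (low t) = up (-t) := by rw [ws, MonoidHom.comp_apply, dTw_low, theta_low]

theorem theta_dTw (x : SL2) : theta (dTw x) = dTw (theta x) :=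
  Subtype.ext (by rw [theta_val, dTw_val, dTw_val, theta_val]; simp)

theorem ws_theta (x : SL2) : ws (theta x) = theta (ws x) := by
  simp only [ws, MonoidHom.comp_apply, theta_dTw]

theorem ws_ws (x : SL2) : ws (ws x) = x := by
  simp only [ws, MonoidHom.comp_apply, theta_dTw, theta_theta, dTw_dTw]

variable [Finite F] {n : ℕ} (hn : 4 ≤ n) {G : Type*} [Group G]
  (f : Matrix.SpecialLinearGroup (Fin n) F →* G) (s : G)

/-- The first rank one subgroup. -/
noncomputable def phi : SL2 →* G := f.comp ((i3 F hn).comp (s01 F))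

/-- A conjugate of the sign change. -/
noncomputable def cs (σ : alternatingGroup (Fin n)) : G := f (pm n F σ) * s * (f (pm n F σ))⁻¹

/-- The exchange carrying the last pair to the middle one. -/
def c12 : alternatingGroup (Fin n) :=
  dswap ((pt_inj hn).ne (show (2 : Fin 4) ≠ 3 by decide)) ((pt_inj hn).ne (show (1 : Fin 4) ≠ 2 by decide))

/-- The exchange carrying the last pair to the outer one. -/
def c02 : alternatingGroup (Fin n) :=
  dswap ((pt_inj hn).ne (show (2 : Fin 4) ≠ 3 by decide)) ((pt_inj hn).ne (show (0 : Fin 4) ≠ 2 by decide))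

/-- The far rank one subgroup. -/
noncomputable def phi23 (x : SL2) : G := f (pm n F (gb hn)) * phi hn f x * (f (pm n F (gb hn)))⁻¹

/-- The relations asked of the sign change. -/
structure Few (u : SL2) (Gst : Set (alternatingGroup (Fin n))) (T' : Set SL2) : Prop where
  st : ∀ σ ∈ Gst, Commute s (f (pm n F σ))
  tri : cs f s (gb hn) * cs f s (c12 hn) = cs f s (c02 hn)
  sq : n = 4 → s * s = 1
  fix : Commute s (phi hn f u)
  inv : cs f s (gb hn) * phi hn f u * cs f s (gb hn) = phi hn f (ws u)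
  same : ∀ t ∈ T', Commute (phi hn f u) (cs f s (c12 hn) * phi hn f t * cs f s (c12 hn))
  far : n = 4 → ∀ t ∈ T', Commute (phi hn f u) (cs f s (c12 hn) * phi23 hn f t * cs f s (c12 hn))

/-- What the test elements must satisfy. -/
def Tests (u : SL2) (T' : Set SL2) : Prop :=
  u ∈ T' ∧ (ws u = theta u ∨ ws u = (theta u)⁻¹ ∨ theta u ∈ T')

/-- The elements which fix the last pair as a set. -/
def Stab23 (σ : alternatingGroup (Fin n)) : Prop :=
  ((σ : Perm (Fin n)) (pt hn 2) = pt hn 2 ∧ (σ : Perm (Fin n)) (pt hn 3) = pt hn 3) ∨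
    ((σ : Perm (Fin n)) (pt hn 2) = pt hn 3 ∧ (σ : Perm (Fin n)) (pt hn 3) = pt hn 2)

theorem phi_up (t : F) : phi hn f (up t) = f (T (pt hn 0) (pt hn 1) t) := by
  show f (i3 F hn (s01 F (up t))) = _
  rw [s01_up, i3_tv hn (by decide)]
  rfl

theorem phi_low (t : F) : phi hn f (low t) = f (T (pt hn 1) (pt hn 0) t) := by
  show f (i3 F hn (s01 F (low t))) = _
  rw [s01_low, i3_tv hn (by decide)]
  rfl

theorem phi_ord (p : Bool) (t : F) :
    phi hn f (if p then up t else low t) = f (ord p (pt hn 0) (pt hn 1) t) := by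
  cases p
  exacts [phi_low hn f t, phi_up hn f t]

theorem pm_ord (σ : alternatingGroup (Fin n)) {a b : Fin n} (h : a ≠ b) (p : Bool) (t : F) :
    f (pm n F σ) * f (ord p a b t) * (f (pm n F σ))⁻¹ =
      f (ord p ((σ : Perm (Fin n)) a) ((σ : Perm (Fin n)) b) t) := by
  rw [← map_inv, ← map_mul, ← map_mul]
  cases p
  exacts [congrArg f (pm_conj σ h.symm t), congrArg f (pm_conj σ h t)]

theorem ga_phi (x : SL2) : f (pm n F (ga hn)) * phi hn f x * (f (pm n F (ga hn)))⁻¹ = phi hn f (theta x) := by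
  show f _ * f (i3 F hn (s01 F x)) * _ = f (i3 F hn (s01 F (theta x)))
  rw [← s10_eq, ← T_two hn x, map_mul, map_mul, map_inv]

theorem gb2 : (gb hn : Perm (Fin n)) (pt hn 2) = pt hn 0 ∧ (gb hn : Perm (Fin n)) (pt hn 3) = pt hn 1 := by
  simp only [gb, dswap, Perm.mul_apply, swp]
  exact ⟨congrArg (pt hn) (by decide), congrArg (pt hn) (by decide)⟩

theorem ga2 : (ga hn : Perm (Fin n)) (pt hn 2) = pt hn 3 ∧ (ga hn : Perm (Fin n)) (pt hn 3) = pt hn 2 := by
  simp only [ga, dswap, Perm.mul_apply, swp]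
  exact ⟨congrArg (pt hn) (by decide), congrArg (pt hn) (by decide)⟩

theorem gb_sq : gb hn * gb hn = 1 := by
  refine Subtype.ext (Perm.ext fun x => ?_)
  show (gb hn : Perm (Fin n)) ((gb hn : Perm (Fin n)) x) = x
  by_cases h : ∃ a, pt hn a = x
  · obtain ⟨a, rfl⟩ := h
    simp only [gb, dswap, Perm.mul_apply, swp]
    exact congrArg (pt hn) (by revert a; decide)
  · simp only [not_exists] at h
    simp [gb, dswap, swap_apply_def, fun a => Ne.symm (h a)]

theorem c12_pt : (c12 hn : Perm (Fin n)) (pt hn 2) = pt hn 1 ∧ (c12 hn : Perm (Fin n)) (pt hn 3) = pt hn 2 := by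
  simp only [c12, dswap, Perm.mul_apply, swp]
  exact ⟨congrArg (pt hn) (by decide), congrArg (pt hn) (by decide)⟩

theorem c02_pt : (c02 hn : Perm (Fin n)) (pt hn 2) = pt hn 0 ∧ (c02 hn : Perm (Fin n)) (pt hn 3) = pt hn 2 := by
  simp only [c02, dswap, Perm.mul_apply, swp]
  exact ⟨congrArg (pt hn) (by decide), congrArg (pt hn) (by decide)⟩

theorem exists_to {a b : Fin n} (h : a ≠ b) :
    ∃ σ : alternatingGroup (Fin n), (σ : Perm (Fin n)) (pt hn 2) = a ∧ (σ : Perm (Fin n)) (pt hn 3) = b := by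
  obtain ⟨τ, h0, h1⟩ := exists_pair_alt hn h
  exact ⟨τ * gb hn, by rw [Subgroup.coe_mul, Perm.mul_apply, (gb2 hn).1, h0],
    by rw [Subgroup.coe_mul, Perm.mul_apply, (gb2 hn).2, h1]⟩

open scoped Classical in
/-- All the sign changes. -/
noncomputable def allS (a b : Fin n) : G :=
  if h : a ≠ b then cs f s (exists_to hn h).choose else 1

section derive

variable {hn f s}
variable {u : Matrix.SpecialLinearGroup (Fin 2) F} {Gst : Set (alternatingGroup (Fin n))} {T' : Set (Matrix.SpecialLinearGroup (Fin 2) F)}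
  (Q : Few hn f s u Gst T') (hG : ∀ σ, Stab23 hn σ → σ ∈ Subgroup.closure Gst)

include Q hG

theorem st_all {σ : alternatingGroup (Fin n)} (h : Stab23 hn σ) : Commute s (f (pm n F σ)) := by
  have hle : Subgroup.closure Gst ≤ ((Subgroup.centralizer {s}).comap f).comap (pm n F) :=
    (Subgroup.closure_le _).2 fun τ hτ => Subgroup.mem_centralizer_iff.2 fun g hg => by
      rw [Set.mem_singleton_iff.1 hg]; exact (Q.st τ hτ).eq
  exact Subgroup.mem_centralizer_iff.1 (hle (hG σ h)) s rfl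

theorem cs_eq {σ : alternatingGroup (Fin n)} {a b : Fin n} (hab : a ≠ b)
    (h : ((σ : Perm (Fin n)) (pt hn 2) = a ∧ (σ : Perm (Fin n)) (pt hn 3) = b) ∨
      ((σ : Perm (Fin n)) (pt hn 2) = b ∧ (σ : Perm (Fin n)) (pt hn 3) = a)) :
    allS hn f s a b = cs f s σ := by
  rw [allS, dif_pos hab]
  obtain ⟨e2, e3⟩ := (exists_to hn hab).choose_spec
  set τ := (exists_to hn hab).choose
  have hst : Stab23 hn (τ⁻¹ * σ) := by
    have i2 : Equiv.symm (τ : Perm (Fin n)) a = pt hn 2 := by rw [← e2, Equiv.symm_apply_apply]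
    have i3' : Equiv.symm (τ : Perm (Fin n)) b = pt hn 3 := by rw [← e3, Equiv.symm_apply_apply]
    rcases h with ⟨h2, h3⟩ | ⟨h2, h3⟩
    · exact Or.inl ⟨by simp [h2, i2], by simp [h3, i3']⟩
    · exact Or.inr ⟨by simp [h2, i3'], by simp [h3, i2]⟩
  have hc := st_all Q hG hst
  rw [map_mul, map_inv, map_mul, map_inv] at hc
  show f (pm n F τ) * s * _ = f (pm n F σ) * s * _
  rw [show f (pm n F σ) * s * (f (pm n F σ))⁻¹ = f (pm n F τ) * (((f (pm n F τ))⁻¹ * f (pm n F σ)) * s) *
    ((f (pm n F τ))⁻¹ * f (pm n F σ))⁻¹ * (f (pm n F τ))⁻¹ by group, ← hc.eq]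
  group

theorem S_symm {a b : Fin n} (hab : a ≠ b) : allS hn f s a b = allS hn f s b a := by
  obtain ⟨σ, h2, h3⟩ := exists_to hn hab
  rw [cs_eq Q hG hab (Or.inl ⟨h2, h3⟩), cs_eq Q hG hab.symm (Or.inr ⟨h2, h3⟩)]

theorem S_cov (τ : alternatingGroup (Fin n)) {a b : Fin n} (hab : a ≠ b) :
    f (pm n F τ) * allS hn f s a b * (f (pm n F τ))⁻¹ =
      allS hn f s ((τ : Perm (Fin n)) a) ((τ : Perm (Fin n)) b) := by
  obtain ⟨σ, h2, h3⟩ := exists_to hn hab
  rw [cs_eq Q hG hab (Or.inl ⟨h2, h3⟩), cs_eq Q hG ((τ : Perm (Fin n)).injective.ne hab) (σ := τ * σ)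
    (Or.inl ⟨by simp [h2], by simp [h3]⟩), cs, cs, map_mul, map_mul]
  group

theorem S23 : allS hn f s (pt hn 2) (pt hn 3) = s := by
  rw [cs_eq Q hG ((pt_inj hn).ne (by decide)) (σ := 1) (Or.inl ⟨rfl, rfl⟩), cs, map_one, map_one, one_mul,
    inv_one, mul_one]

omit Q hG in
theorem p01 : pt hn 0 ≠ pt hn 1 ∧ pt hn 1 ≠ pt hn 2 ∧ pt hn 0 ≠ pt hn 2 :=
  ⟨(pt_inj hn).ne (by decide), (pt_inj hn).ne (by decide), (pt_inj hn).ne (by decide)⟩

theorem S_tri0 : allS hn f s (pt hn 0) (pt hn 1) * allS hn f s (pt hn 1) (pt hn 2) =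
    allS hn f s (pt hn 0) (pt hn 2) := by
  obtain ⟨h01, h12, h02⟩ := p01 (hn := hn)
  rw [cs_eq Q hG h01 (Or.inl (gb2 hn)), cs_eq Q hG h12 (Or.inl (c12_pt hn)), cs_eq Q hG h02 (Or.inl (c02_pt hn))]
  exact Q.tri

theorem S_sq {a b : Fin n} (hab : a ≠ b) : allS hn f s a b * allS hn f s a b = 1 := by
  obtain ⟨σ, h2, h3⟩ := exists_to hn hab
  suffices hs : s * s = 1 by
    rw [cs_eq Q hG hab (Or.inl ⟨h2, h3⟩), cs,
      show f (pm n F σ) * s * (f (pm n F σ))⁻¹ * (f (pm n F σ) * s * (f (pm n F σ))⁻¹) =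
        f (pm n F σ) * (s * s) * (f (pm n F σ))⁻¹ by group, hs, mul_one, mul_inv_cancel]
  rcases Nat.eq_or_lt_of_le hn with h4 | h5
  · exact Q.sq h4.symm
  let p4 : Fin n := ⟨4, h5⟩
  have hne : ∀ a : Fin 4, pt hn a ≠ p4 := fun a e => by
    have := congrArg Fin.val e
    simp [pt, p4] at this
    omega
  obtain ⟨h01, h12, h02⟩ := p01 (hn := hn)
  let μ : alternatingGroup (Fin n) := dswap h01 (hne 3)
  have m0 : (μ : Perm (Fin n)) (pt hn 0) = pt hn 1 := by
    simp [μ, dswap, swap_apply_def, hne, (pt_inj hn).eq_iff]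
  have m1 : (μ : Perm (Fin n)) (pt hn 1) = pt hn 0 := by
    simp [μ, dswap, swap_apply_def, hne, (pt_inj hn).eq_iff]
  have m2 : (μ : Perm (Fin n)) (pt hn 2) = pt hn 2 := by
    simp [μ, dswap, swap_apply_def, hne, (pt_inj hn).eq_iff]
  have t := S_tri0 Q hG
  have e : allS hn f s (pt hn 0) (pt hn 1) * allS hn f s (pt hn 0) (pt hn 2) =
      allS hn f s (pt hn 1) (pt hn 2) := by
    have h := congrArg (fun x => f (pm n F μ) * x * (f (pm n F μ))⁻¹) t
    rw [show f (pm n F μ) * (allS hn f s (pt hn 0) (pt hn 1) * allS hn f s (pt hn 1) (pt hn 2)) * (f (pm n F μ))⁻¹ =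
      (f (pm n F μ) * allS hn f s (pt hn 0) (pt hn 1) * (f (pm n F μ))⁻¹) *
        (f (pm n F μ) * allS hn f s (pt hn 1) (pt hn 2) * (f (pm n F μ))⁻¹) by group,
      S_cov Q hG μ h01, S_cov Q hG μ h12, S_cov Q hG μ h02, m0, m1, m2, S_symm Q hG h01.symm] at h
    exact h
  rw [← t, ← mul_assoc] at e
  have hq : allS hn f s (pt hn 0) (pt hn 1) * allS hn f s (pt hn 0) (pt hn 1) = 1 := mul_eq_right.1 e
  rw [cs_eq Q hG h01 (Or.inl (gb2 hn)), cs] at hq
  rw [show f (pm n F (gb hn)) * s * (f (pm n F (gb hn)))⁻¹ * (f (pm n F (gb hn)) * s * (f (pm n F (gb hn)))⁻¹) =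
    f (pm n F (gb hn)) * (s * s) * (f (pm n F (gb hn)))⁻¹ by group, mul_inv_eq_one, mul_eq_left] at hq
  exact hq

theorem S_tri {a b c : Fin n} (hab : a ≠ b) (hbc : b ≠ c) (hac : a ≠ c) :
    allS hn f s a b * allS hn f s b c = allS hn f s a c := by
  obtain ⟨h01, h12, h02⟩ := p01 (hn := hn)
  set A := allS hn f s (pt hn 0) (pt hn 1) with hA
  set B := allS hn f s (pt hn 1) (pt hn 2) with hB
  set C := allS hn f s (pt hn 0) (pt hn 2) with hC
  have hAA : A * A = 1 := S_sq Q hG h01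
  have hBB : B * B = 1 := S_sq Q hG h12
  have hCC : C * C = 1 := S_sq Q hG h02
  have t : A * B = C := S_tri0 Q hG
  have t' : B * A = C := by
    have := congrArg (·⁻¹) t
    simpa [inv_eq_of_mul_eq_one_right hAA, inv_eq_of_mul_eq_one_right hBB, inv_eq_of_mul_eq_one_right hCC]
      using this
  have t1 : A * C = B := by rw [← t, ← mul_assoc, hAA, one_mul]
  have t2 : C * A = B := by rw [← t', mul_assoc, hAA, mul_one]
  have t3 : C * B = A := by rw [← t, mul_assoc, hBB, mul_one]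
  have t4 : B * C = A := by rw [← t', ← mul_assoc, hBB, one_mul]
  have base : ∀ x y z : Fin 3, x ≠ y → y ≠ z → x ≠ z →
      allS hn f s (e3 hn x) (e3 hn y) * allS hn f s (e3 hn y) (e3 hn z) = allS hn f s (e3 hn x) (e3 hn z) := by
    have s10 : allS hn f s (pt hn 1) (pt hn 0) = A := S_symm Q hG h01.symm
    have s21 : allS hn f s (pt hn 2) (pt hn 1) = B := S_symm Q hG h12.symm
    have s20 : allS hn f s (pt hn 2) (pt hn 0) = C := S_symm Q hG h02.symm
    intro x y z hxy hyz hxz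
    fin_cases x <;> fin_cases y <;> fin_cases z <;> simp only [e3] <;>
      first
        | exact absurd rfl hxy
        | exact absurd rfl hyz
        | exact absurd rfl hxz
        | simpa [← hA, ← hB, ← hC, s10, s21, s20] using t
        | simpa [← hA, ← hB, ← hC, s10, s21, s20] using t'
        | simpa [← hA, ← hB, ← hC, s10, s21, s20] using t1
        | simpa [← hA, ← hB, ← hC, s10, s21, s20] using t2
        | simpa [← hA, ← hB, ← hC, s10, s21, s20] using t3
        | simpa [← hA, ← hB, ← hC, s10, s21, s20] using t4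
  obtain ⟨τ, x, y, z, hxy, hyz, hxz, rfl, rfl, rfl⟩ := exists_triple hn hab hbc hac
  have e := congrArg (fun w => f (pm n F τ) * w * (f (pm n F τ))⁻¹) (base x y z hxy hyz hxz)
  rw [show f (pm n F τ) * (allS hn f s (e3 hn x) (e3 hn y) * allS hn f s (e3 hn y) (e3 hn z)) * (f (pm n F τ))⁻¹ =
    (f (pm n F τ) * allS hn f s (e3 hn x) (e3 hn y) * (f (pm n F τ))⁻¹) *
      (f (pm n F τ) * allS hn f s (e3 hn y) (e3 hn z) * (f (pm n F τ))⁻¹) by group,
    S_cov Q hG τ ((e3_inj hn).ne hxy), S_cov Q hG τ ((e3_inj hn).ne hyz), S_cov Q hG τ ((e3_inj hn).ne hxz)] at e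
  exact e

omit Q hG in
theorem gen_ext {φ χ : SL2 →* G} (hu : Subgroup.closure ({u, theta u} : Set SL2) = ⊤)
    (h1 : φ u = χ u) (h2 : φ (theta u) = χ (theta u)) (x : SL2) : φ x = χ x :=
  DFunLike.congr_fun (MonoidHom.eq_of_eqOn_dense hu (f := φ) (g := χ) (by rintro y (rfl | rfl) <;> assumption)) x

variable (hu : Subgroup.closure ({u, theta u} : Set (Matrix.SpecialLinearGroup (Fin 2) F)) = ⊤)
include hu

theorem fix_phi (x : SL2) : Commute s (phi hn f x) := by
  have hga : Commute s (f (pm n F (ga hn))) := st_all Q hG (Or.inr (ga2 hn))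
  refine mul_inv_eq_iff_eq_mul.1 (gen_ext (φ := (MulAut.conj s).toMonoidHom.comp (phi hn f)) (χ := phi hn f)
    hu ?_ ?_ x)
  · exact mul_inv_eq_iff_eq_mul.2 Q.fix.eq
  · refine mul_inv_eq_iff_eq_mul.2 ?_
    rw [← ga_phi]
    exact ((hga.mul_right Q.fix).mul_right hga.inv_right).eq

theorem inv_phi (x : SL2) :
    allS hn f s (pt hn 0) (pt hn 1) * phi hn f x * allS hn f s (pt hn 0) (pt hn 1) = phi hn f (ws x) := by
  obtain ⟨h01, -, -⟩ := p01 (hn := hn)
  set A := allS hn f s (pt hn 0) (pt hn 1) with hA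
  have hAi : A⁻¹ = A := inv_eq_of_mul_eq_one_right (S_sq Q hG h01)
  have hu1 : A * phi hn f u * A = phi hn f (ws u) := by
    rw [hA, cs_eq Q hG h01 (Or.inl (gb2 hn))]
    exact Q.inv
  have hg : f (pm n F (ga hn)) * A * (f (pm n F (ga hn)))⁻¹ = A := by
    rw [hA, S_cov Q hG _ h01, ga0, ga1, S_symm Q hG h01.symm]
  have := gen_ext (φ := (MulAut.conj A).toMonoidHom.comp (phi hn f)) (χ := (phi hn f).comp ws) hu
    (by show A * _ * A⁻¹ = _; rw [hAi]; exact hu1)
    (by
      show A * phi hn f (theta u) * A⁻¹ = phi hn f (ws (theta u))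
      rw [hAi, ← ga_phi, ws_theta, ← ga_phi, ← hu1,
        show f (pm n F (ga hn)) * (A * phi hn f u * A) * (f (pm n F (ga hn)))⁻¹ =
          (f (pm n F (ga hn)) * A * (f (pm n F (ga hn)))⁻¹) *
            (f (pm n F (ga hn)) * phi hn f u * (f (pm n F (ga hn)))⁻¹) *
            (f (pm n F (ga hn)) * A * (f (pm n F (ga hn)))⁻¹) by group, hg])
    x
  change A * phi hn f x * A⁻¹ = _ at this
  rwa [hAi] at this

theorem rel_fix {a b c d : Fin n} (hab : a ≠ b) (hcd : c ≠ d) (hac : a ≠ c) (had : a ≠ d) (hbc : b ≠ c)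
    (hbd : b ≠ d) (t : F) : Commute (allS hn f s a b) (f (T c d t)) := by
  have hp := pt_inj hn
  obtain ⟨σ, hσ⟩ := exists_even (pt hn) ![c, d, a, b] hp
    (by intro u v; fin_cases u <;> fin_cases v <;>
      simp [hab, hab.symm, hcd, hcd.symm, hac, hac.symm, had, had.symm, hbc, hbc.symm, hbd, hbd.symm])
    (show (2 : Fin 4) ≠ 3 by decide)
  have hS : allS hn f s a b = cs f s σ := by
    refine cs_eq Q hG hab ?_
    rcases hσ with h | ⟨h2, h3, -⟩
    exacts [Or.inl ⟨h 2, h 3⟩, Or.inr ⟨h2, h3⟩]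
  obtain ⟨h0, h1⟩ : (σ : Perm (Fin n)) (pt hn 0) = c ∧ (σ : Perm (Fin n)) (pt hn 1) = d := by
    rcases hσ with h | ⟨-, -, h⟩
    exacts [⟨h 0, h 1⟩, ⟨h 0 (by decide) (by decide), h 1 (by decide) (by decide)⟩]
  have e : f (T c d t) = f (pm n F σ) * phi hn f (up t) * (f (pm n F σ))⁻¹ := by
    rw [phi_up, show f (T (pt hn 0) (pt hn 1) t) = f (ord true (pt hn 0) (pt hn 1) t) from rfl,
      pm_ord f σ (hp.ne (by decide)), h0, h1]
    rfl
  rw [hS, e]
  exact (Commute.conj_iff _).2 (fix_phi Q hG hu _)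

theorem rel_inv {a b : Fin n} (hab : a ≠ b) (t : F) :
    allS hn f s a b * f (T a b t) * allS hn f s a b = f (T b a (-t)) := by
  obtain ⟨h01, -, -⟩ := p01 (hn := hn)
  obtain ⟨σ, h0, h1⟩ := exists_pair_alt hn hab
  have h := congrArg (fun w => f (pm n F σ) * w * (f (pm n F σ))⁻¹) (inv_phi Q hG hu (up t))
  rw [ws_up, phi_up, phi_low] at h
  have e1 := pm_ord f σ h01 true t
  have e2 := pm_ord f σ h01 false (-t)
  simp only [ord, Bool.false_eq_true, if_true, if_false, h0, h1] at e1 e2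
  rw [show f (pm n F σ) * (allS hn f s (pt hn 0) (pt hn 1) * f (T (pt hn 0) (pt hn 1) t) *
      allS hn f s (pt hn 0) (pt hn 1)) * (f (pm n F σ))⁻¹ =
    (f (pm n F σ) * allS hn f s (pt hn 0) (pt hn 1) * (f (pm n F σ))⁻¹) *
      (f (pm n F σ) * f (T (pt hn 0) (pt hn 1) t) * (f (pm n F σ))⁻¹) *
      (f (pm n F σ) * allS hn f s (pt hn 0) (pt hn 1) * (f (pm n F σ))⁻¹) by group,
    S_cov Q hG σ h01, h0, h1, e1, e2] at h
  exact h

omit hu in
theorem S_prod {a b c : Fin n} (hab : a ≠ b) (hbc : b ≠ c) (hac : a ≠ c) :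
    allS hn f s a b * allS hn f s b c = allS hn f s a c ∧ allS hn f s b c * allS hn f s a b = allS hn f s a c :=
  ⟨S_tri Q hG hab hbc hac, by
    rw [S_symm Q hG hbc, S_symm Q hG hab, S_tri Q hG hbc.symm hab.symm hac.symm, S_symm Q hG hac.symm]⟩

omit hu in
theorem S03 : f (pm n F (ga hn)) * allS hn f s (pt hn 1) (pt hn 2) * (f (pm n F (ga hn)))⁻¹ =
      allS hn f s (pt hn 0) (pt hn 1) * allS hn f s (pt hn 1) (pt hn 2) * allS hn f s (pt hn 2) (pt hn 3) ∧
    allS hn f s (pt hn 0) (pt hn 3) =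
      allS hn f s (pt hn 0) (pt hn 1) * allS hn f s (pt hn 1) (pt hn 2) * allS hn f s (pt hn 2) (pt hn 3) ∧
    allS hn f s (pt hn 0) (pt hn 3) =
      allS hn f s (pt hn 2) (pt hn 3) * allS hn f s (pt hn 1) (pt hn 2) * allS hn f s (pt hn 0) (pt hn 1) ∧
    allS hn f s (pt hn 0) (pt hn 1) * allS hn f s (pt hn 1) (pt hn 2) =
      allS hn f s (pt hn 1) (pt hn 2) * allS hn f s (pt hn 0) (pt hn 1) ∧
    allS hn f s (pt hn 1) (pt hn 2) * allS hn f s (pt hn 2) (pt hn 3) =
      allS hn f s (pt hn 2) (pt hn 3) * allS hn f s (pt hn 1) (pt hn 2) := by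
  have hp := pt_inj hn
  obtain ⟨h01, h12, h02⟩ := p01 (hn := hn)
  have h03 : pt hn 0 ≠ pt hn 3 := hp.ne (by decide)
  have h23 : pt hn 2 ≠ pt hn 3 := hp.ne (by decide)
  have h13 : pt hn 1 ≠ pt hn 3 := hp.ne (by decide)
  obtain ⟨a1, a2⟩ := S_prod Q hG h01 h12 h02
  obtain ⟨b1, b2⟩ := S_prod Q hG h02 h23 h03
  obtain ⟨c1, c2⟩ := S_prod Q hG h12 h23 h13
  refine ⟨?_, ?_, ?_, a1.trans a2.symm, c1.trans c2.symm⟩
  · rw [S_cov Q hG _ h12, ga1, show (ga hn : Perm (Fin n)) (pt hn 2) = pt hn 3 from (ga2 hn).1, a1, b1]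
  · rw [a1, b1]
  · rw [mul_assoc, a2, b2]

omit hu in
/-- The middle conjugate. -/
theorem ga_mid (z : G) (hz : ∀ A : G, A = allS hn f s (pt hn 2) (pt hn 3) → A * z * A = z) :
    allS hn f s (pt hn 0) (pt hn 3) * z * allS hn f s (pt hn 0) (pt hn 3) =
      allS hn f s (pt hn 1) (pt hn 2) *
        (allS hn f s (pt hn 0) (pt hn 1) * z * allS hn f s (pt hn 0) (pt hn 1)) * allS hn f s (pt hn 1) (pt hn 2) := by
  obtain ⟨-, e1, e2, e3, -⟩ := S03 Q hG
  conv_lhs => rw [e1]; arg 2; rw [← e1, e2]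
  set A := allS hn f s (pt hn 0) (pt hn 1)
  set B := allS hn f s (pt hn 1) (pt hn 2)
  set C := allS hn f s (pt hn 2) (pt hn 3)
  calc A * B * C * z * (C * B * A) = (A * B) * (C * z * C) * (B * A) := by simp only [mul_assoc]
    _ = (B * A) * z * (A * B) := by rw [hz C rfl, e3]
    _ = _ := by simp only [mul_assoc]

theorem phi23_fix (x : SL2) :
    allS hn f s (pt hn 0) (pt hn 1) * phi23 hn f x * allS hn f s (pt hn 0) (pt hn 1) = phi23 hn f x ∧
    allS hn f s (pt hn 2) (pt hn 3) * phi23 hn f x * allS hn f s (pt hn 2) (pt hn 3) = phi23 hn f (ws x) := by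
  have hp := pt_inj hn
  have h01 : pt hn 0 ≠ pt hn 1 := hp.ne (by decide)
  have h23 : pt hn 2 ≠ pt hn 3 := hp.ne (by decide)
  have h0 : allS hn f s (pt hn 0) (pt hn 1) =
      f (pm n F (gb hn)) * allS hn f s (pt hn 2) (pt hn 3) * (f (pm n F (gb hn)))⁻¹ := by
    rw [S_cov Q hG _ h23, (gb2 hn).1, (gb2 hn).2]
  have h2 : allS hn f s (pt hn 2) (pt hn 3) =
      f (pm n F (gb hn)) * allS hn f s (pt hn 0) (pt hn 1) * (f (pm n F (gb hn)))⁻¹ := by
    rw [S_cov Q hG _ h01, gb0, gb1]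
  constructor
  · rw [h0, phi23, show ∀ g a b : G, g * a * g⁻¹ * (g * b * g⁻¹) * (g * a * g⁻¹) = g * (a * b * a) * g⁻¹ from
      fun g a b => by group, S23 Q hG, (fix_phi Q hG hu x).eq, mul_assoc _ s s,
      show s * s = 1 by rw [← S23 Q hG]; exact S_sq Q hG h23, mul_one]
  · rw [h2, phi23, phi23, show ∀ g a b : G, g * a * g⁻¹ * (g * b * g⁻¹) * (g * a * g⁻¹) = g * (a * b * a) * g⁻¹ from
      fun g a b => by group, inv_phi Q hG hu x]

variable (hT : Tests u T')
include hT

omit Q hG in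
theorem tests_closure {P : SL2 → SL2 → Prop} (hswap : ∀ x y, P x y → P y x)
    (hinv : ∀ x y, P x y → P x y⁻¹)
    (hga : ∀ x y, P x y → P (theta x) (ws (theta y))) (hbase : ∀ t ∈ T', P u t)
    (hext : ∀ x, P x u → P x (theta u) → ∀ y, P x y) :
    ∀ x y, P x y := by
  obtain ⟨hu1, hc⟩ := hT
  have huu := hbase u hu1
  have htu : P u (theta u) := by
    rcases hc with h | h | h
    · have := hga _ _ huu
      rw [ws_theta, h, theta_theta] at this
      exact hswap _ _ this
    · have := hinv _ _ (hga _ _ huu)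
      rw [ws_theta, h, map_inv, theta_theta, inv_inv] at this
      exact hswap _ _ this
    · exact hbase _ h
  have hU : ∀ y, P u y := hext u huu htu
  have hV : ∀ y, P (theta u) y := fun y => by
    have := hga _ _ (hU (theta (ws y)))
    rwa [theta_theta, ws_ws] at this
  exact fun x y => hswap _ _ (hext y (hswap _ _ (hU y)) (hswap _ _ (hV y)) x)

theorem same_phi (x y : SL2) :
    Commute (phi hn f x) (allS hn f s (pt hn 1) (pt hn 2) * phi hn f y * allS hn f s (pt hn 1) (pt hn 2)) := by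
  obtain ⟨h01, h12, -⟩ := p01 (hn := hn)
  obtain ⟨eg, e1, -, -, -⟩ := S03 Q hG
  rw [← e1] at eg
  set B := allS hn f s (pt hn 1) (pt hn 2) with hB
  have hBB : B * B = 1 := S_sq Q hG h12
  have hBi : B⁻¹ = B := inv_eq_of_mul_eq_one_right hBB
  refine tests_closure (P := fun x y => Commute (phi hn f x) (B * phi hn f y * B)) hu hT ?_ ?_ ?_ ?_ ?_ x y
  · intro x y h
    have h2 := (Commute.conj_iff B).2 h
    rw [hBi, show B * (B * phi hn f y * B) * B = (B * B) * phi hn f y * (B * B) by group, hBB, one_mul,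
      mul_one] at h2
    exact h2.symm
  · intro x y h
    have h2 := h.inv_right
    rwa [_root_.mul_inv_rev, _root_.mul_inv_rev, hBi, ← map_inv, ← mul_assoc] at h2
  · intro x y h
    have h2 := (Commute.conj_iff (f (pm n F (ga hn)))).2 h
    rw [ga_phi, show f (pm n F (ga hn)) * (B * phi hn f y * B) * (f (pm n F (ga hn)))⁻¹ =
      (f (pm n F (ga hn)) * B * (f (pm n F (ga hn)))⁻¹) * (f (pm n F (ga hn)) * phi hn f y * (f (pm n F (ga hn)))⁻¹) *
        (f (pm n F (ga hn)) * B * (f (pm n F (ga hn)))⁻¹) by group, eg, ga_phi,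
      ga_mid Q hG _ (fun A hA => by
        rw [hA, S23 Q hG, (fix_phi Q hG hu _).eq, mul_assoc, ← S23 Q hG,
          S_sq Q hG ((pt_inj hn).ne (by decide)), mul_one]),
      inv_phi Q hG hu] at h2
    exact h2
  · intro t ht
    rw [hB, cs_eq Q hG h12 (Or.inl (c12_pt hn))]
    exact Q.same t ht
  · intro x h1 h2 y
    let χ : SL2 →* G := (MulAut.conj B).toMonoidHom.comp (phi hn f)
    have hχ : ∀ z, χ z = B * phi hn f z * B := fun z => by
      show B * (phi hn f z) * B⁻¹ = _
      rw [hBi]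
    have e := mul_inv_eq_iff_eq_mul.1 (gen_ext (φ := (MulAut.conj (phi hn f x)).toMonoidHom.comp χ) (χ := χ) hu
      (by show phi hn f x * χ u * _ = χ u; rw [hχ]; exact mul_inv_eq_iff_eq_mul.2 h1.eq)
      (by show phi hn f x * χ (theta u) * _ = χ (theta u); rw [hχ]; exact mul_inv_eq_iff_eq_mul.2 h2.eq) y)
    rw [hχ] at e
    exact e

theorem far_phi (h4 : n = 4) (x y : SL2) :
    Commute (phi hn f x) (allS hn f s (pt hn 1) (pt hn 2) * phi23 hn f y * allS hn f s (pt hn 1) (pt hn 2)) := by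
  obtain ⟨h01, h12, -⟩ := p01 (hn := hn)
  obtain ⟨eg, e1, e2, e3, e4⟩ := S03 Q hG
  rw [← e1] at eg
  set A := allS hn f s (pt hn 0) (pt hn 1) with hA
  set B := allS hn f s (pt hn 1) (pt hn 2) with hB
  set C := allS hn f s (pt hn 2) (pt hn 3) with hC
  have hBB : B * B = 1 := S_sq Q hG h12
  have hBi : B⁻¹ = B := inv_eq_of_mul_eq_one_right hBB
  have hCC : C * C = 1 := S_sq Q hG ((pt_inj hn).ne (by decide))
  have hCi : C⁻¹ = C := inv_eq_of_mul_eq_one_right hCC
  have hAA : A * A = 1 := S_sq Q hG h01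
  have hAi : A⁻¹ = A := inv_eq_of_mul_eq_one_right hAA
  have hfx : ∀ z, C * phi hn f z * C = phi hn f z := fun z => by
    rw [hC, S23 Q hG, (fix_phi Q hG hu z).eq, mul_assoc, ← S23 Q hG, hCC, mul_one]
  let P : SL2 → SL2 → Prop := fun x y => Commute (phi hn f x) (B * phi23 hn f y * B)
  have wsr : ∀ x y, P x y → P x (ws y) := fun x y h => by
    have h2 := (Commute.conj_iff C).2 h
    rw [hCi, hfx, show C * (B * phi23 hn f y * B) * C = (C * B) * phi23 hn f y * (B * C) by group, ← e4,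
      show B * C * phi23 hn f y * (B * C) = B * (C * phi23 hn f y * C) * B by
        conv_lhs => arg 2; rw [e4]
        simp only [mul_assoc], (phi23_fix Q hG hu y).2] at h2
    exact h2
  have wsl : ∀ x y, P x y → P (ws x) y := fun x y h => by
    have h2 := (Commute.conj_iff A).2 h
    rw [hAi, inv_phi Q hG hu, show A * (B * phi23 hn f y * B) * A = (A * B) * phi23 hn f y * (B * A) by group, e3,
      show B * A * phi23 hn f y * (B * A) = B * (A * phi23 hn f y * A) * B by
        conv_lhs => arg 2; rw [← e3]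
        simp only [mul_assoc], (phi23_fix Q hG hu y).1] at h2
    exact h2
  refine tests_closure (P := P) hu hT ?_ ?_ ?_ ?_ ?_ x y
  · intro x y h
    have h2 := (Commute.conj_iff (f (pm n F (gb hn)))).2 h
    have hgg : f (pm n F (gb hn)) * f (pm n F (gb hn)) = 1 := by
      rw [← map_mul, ← map_mul, gb_sq hn, map_one, map_one]
    rw [show f (pm n F (gb hn)) * (B * phi23 hn f y * B) * (f (pm n F (gb hn)))⁻¹ =
      (f (pm n F (gb hn)) * B * (f (pm n F (gb hn)))⁻¹) *
        ((f (pm n F (gb hn)) * f (pm n F (gb hn))) * phi hn f y * (f (pm n F (gb hn)) * f (pm n F (gb hn)))⁻¹) *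
        (f (pm n F (gb hn)) * B * (f (pm n F (gb hn)))⁻¹) by rw [phi23]; group, hgg, one_mul, inv_one, mul_one,
      hB, S_cov Q hG _ h12, gb1, show (gb hn : Perm (Fin n)) (pt hn 2) = pt hn 0 from (gb2 hn).1,
      S_symm Q hG ((pt_inj hn).ne (show (3 : Fin 4) ≠ 0 by decide)),
      ga_mid Q hG _ (fun D hD => by rw [hD]; exact hfx y), inv_phi Q hG hu, ← hB] at h2
    have h3 := (Commute.conj_iff B).2 h2
    rw [hBi, show B * (B * phi hn f (ws y) * B) * B = (B * B) * phi hn f (ws y) * (B * B) by group, hBB, one_mul,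
      mul_one] at h3
    have h4' : P (ws y) x := h3.symm
    have := wsl _ _ h4'
    rwa [ws_ws] at this
  · intro x y h
    have h2 := h.inv_right
    rwa [_root_.mul_inv_rev, _root_.mul_inv_rev, hBi, ← mul_assoc,
      show (phi23 hn f y)⁻¹ = phi23 hn f y⁻¹ by rw [phi23, phi23, map_inv]; group] at h2
  · intro x y h
    have h2 := (Commute.conj_iff (f (pm n F (ga hn)))).2 h
    rw [ga_phi, show f (pm n F (ga hn)) * (B * phi23 hn f y * B) * (f (pm n F (ga hn)))⁻¹ =
      (f (pm n F (ga hn)) * B * (f (pm n F (ga hn)))⁻¹) *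
        (f (pm n F (ga hn)) * phi23 hn f y * (f (pm n F (ga hn)))⁻¹) *
        (f (pm n F (ga hn)) * B * (f (pm n F (ga hn)))⁻¹) by group, eg,
      show f (pm n F (ga hn)) * phi23 hn f y * (f (pm n F (ga hn)))⁻¹ = phi23 hn f (theta y) by
        rw [phi23, phi23, ← ga_phi, show ∀ a b x : G, a * (b * x * b⁻¹) * a⁻¹ = (a * b) * x * (a * b)⁻¹ from
          fun a b x => by group, ← map_mul, ← map_mul, ga_gb, map_mul, map_mul]
        group] at h2
    rw [e1] at h2
    conv at h2 => arg 2; arg 2; rw [← e1, e2]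
    rw [show A * B * C * phi23 hn f (theta y) * (C * B * A) = (A * B) * (C * phi23 hn f (theta y) * C) * (B * A) by
      simp only [mul_assoc], (phi23_fix Q hG hu _).2, e3,
      show B * A * phi23 hn f (ws (theta y)) * (B * A) = B * (A * phi23 hn f (ws (theta y)) * A) * B by
        conv_lhs => arg 2; rw [← e3]
        simp only [mul_assoc], (phi23_fix Q hG hu _).1] at h2
    exact h2
  · intro t ht
    show Commute _ _
    rw [hB, cs_eq Q hG h12 (Or.inl (c12_pt hn))]
    exact Q.far h4 t ht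
  · intro x h1 h2 y
    let χ : SL2 →* G := (MulAut.conj B).toMonoidHom.comp
      ((MulAut.conj (f (pm n F (gb hn)))).toMonoidHom.comp (phi hn f))
    have hχ : ∀ z, χ z = B * phi23 hn f z * B := fun z => by
      show B * (phi23 hn f z) * B⁻¹ = _
      rw [hBi]
    have e := mul_inv_eq_iff_eq_mul.1 (gen_ext (φ := (MulAut.conj (phi hn f x)).toMonoidHom.comp χ) (χ := χ) hu
      (by show phi hn f x * χ u * _ = χ u; rw [hχ]; exact mul_inv_eq_iff_eq_mul.2 h1.eq)
      (by show phi hn f x * χ (theta u) * _ = χ (theta u); rw [hχ]; exact mul_inv_eq_iff_eq_mul.2 h2.eq) y)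
    rw [hχ] at e
    exact e

theorem rel_same {a b c : Fin n} (hab : a ≠ b) (hbc : b ≠ c) (hac : a ≠ c) (p q : Bool) (t v : F) :
    Commute (f (ord p a b t)) (allS hn f s b c * f (ord q a b v) * allS hn f s b c) := by
  have hp := pt_inj hn
  obtain ⟨h01, h12, h02⟩ := p01 (hn := hn)
  have base : ∀ (σ : alternatingGroup (Fin n)) p q t v,
      Commute (f (ord p ((σ : Perm (Fin n)) (pt hn 0)) ((σ : Perm (Fin n)) (pt hn 1)) t))
        (allS hn f s ((σ : Perm (Fin n)) (pt hn 1)) ((σ : Perm (Fin n)) (pt hn 2)) *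
          f (ord q ((σ : Perm (Fin n)) (pt hn 0)) ((σ : Perm (Fin n)) (pt hn 1)) v) *
          allS hn f s ((σ : Perm (Fin n)) (pt hn 1)) ((σ : Perm (Fin n)) (pt hn 2))) := by
    intro σ p q t v
    have h := (Commute.conj_iff (f (pm n F σ))).2
      (same_phi Q hG hu hT (if p then up t else low t) (if q then up v else low v))
    rw [phi_ord, phi_ord, pm_ord f σ h01] at h
    rw [← S_cov Q hG σ h12, ← pm_ord f σ h01 q v]
    convert h using 1
    group
  obtain ⟨σ, hσ⟩ := exists_even (e3 hn) ![a, b, c] (e3_inj hn)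
    (by intro u v; fin_cases u <;> fin_cases v <;> simp [hab, hab.symm, hbc, hbc.symm, hac, hac.symm])
    (show (0 : Fin 3) ≠ 1 by decide)
  rcases hσ with h | ⟨h0, h1, h2⟩
  · have := base σ p q t v
    rwa [show (σ : Perm (Fin n)) (pt hn 0) = a from h 0, show (σ : Perm (Fin n)) (pt hn 1) = b from h 1,
      show (σ : Perm (Fin n)) (pt hn 2) = c from h 2] at this
  · have := base σ (!p) q t (-v)
    rw [show (σ : Perm (Fin n)) (pt hn 0) = b from h0, show (σ : Perm (Fin n)) (pt hn 1) = a from h1,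
      show (σ : Perm (Fin n)) (pt hn 2) = c from h2 2 (by decide) (by decide), ord_swap (!p) a b, ord_swap q a b,
      Bool.not_not] at this
    have e : allS hn f s a b * f (ord q a b v) * allS hn f s a b = f (ord (!q) a b (-v)) := by
      cases q
      · show allS hn f s a b * f (T b a v) * allS hn f s a b = f (T a b (-v))
        rw [S_symm Q hG hab]; exact rel_inv Q hG hu hab.symm v
      · exact rel_inv Q hG hu hab v
    obtain ⟨s1, s2⟩ := S_prod Q hG hab.symm hac hbc
    rw [S_symm Q hG hab.symm] at s1 s2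
    rw [← e, show allS hn f s a c * (allS hn f s a b * f (ord q a b v) * allS hn f s a b) * allS hn f s a c =
      (allS hn f s a c * allS hn f s a b) * f (ord q a b v) * (allS hn f s a b * allS hn f s a c) by group,
      s1, s2] at this
    exact this

theorem rel_far {i j k l : Fin n} (hij : i ≠ j) (hkl : k ≠ l) (hik : i ≠ k) (hil : i ≠ l) (hjk : j ≠ k)
    (hjl : j ≠ l) (p q : Bool) (t v : F) :
    Commute (f (ord p i j t)) (allS hn f s i l * f (ord q k l v) * allS hn f s i l) := by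
  have hp := pt_inj hn
  have fixo : ∀ {a b c d : Fin n}, a ≠ b → c ≠ d → a ≠ c → a ≠ d → b ≠ c → b ≠ d → ∀ r w,
      allS hn f s a b * f (ord r c d w) * allS hn f s a b = f (ord r c d w) := by
    intro a b c d h1 h2 h3 h4 h5 h6 r w
    have : Commute (allS hn f s a b) (f (ord r c d w)) := by
      cases r
      exacts [rel_fix Q hG hu h1 h2.symm h4 h3 h6 h5 w, rel_fix Q hG hu h1 h2 h3 h4 h5 h6 w]
    rw [this.eq, mul_assoc, S_sq Q hG h1, mul_one]
  rcases Nat.eq_or_lt_of_le hn with h4 | h5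
  · have h4 := h4.symm
    have h01 : pt hn 0 ≠ pt hn 1 := hp.ne (by decide)
    have base : ∀ (σ : alternatingGroup (Fin n)) p q t v,
        Commute (f (ord p ((σ : Perm (Fin n)) (pt hn 0)) ((σ : Perm (Fin n)) (pt hn 1)) t))
          (allS hn f s ((σ : Perm (Fin n)) (pt hn 1)) ((σ : Perm (Fin n)) (pt hn 2)) *
            f (ord q ((σ : Perm (Fin n)) (pt hn 2)) ((σ : Perm (Fin n)) (pt hn 3)) v) *
            allS hn f s ((σ : Perm (Fin n)) (pt hn 1)) ((σ : Perm (Fin n)) (pt hn 2))) := by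
      intro σ p q t v
      have h := (Commute.conj_iff (f (pm n F σ))).2
        (far_phi Q hG hu hT h4 (if p then up t else low t) (if q then up v else low v))
      rw [phi23, phi_ord, phi_ord, pm_ord f (gb hn) h01, gb0, gb1, pm_ord f σ h01] at h
      rw [← S_cov Q hG σ (hp.ne (show (1 : Fin 4) ≠ 2 by decide)),
        ← pm_ord f σ (hp.ne (show (2 : Fin 4) ≠ 3 by decide)) q v]
      convert h using 1
      group
    obtain ⟨σ, hσ⟩ := exists_even (pt hn) ![j, i, l, k] hp
      (by intro u v; fin_cases u <;> fin_cases v <;>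
        simp [hij, hij.symm, hkl, hkl.symm, hik, hik.symm, hil, hil.symm, hjk, hjk.symm, hjl, hjl.symm])
      (show (2 : Fin 4) ≠ 3 by decide)
    rcases hσ with h | ⟨h2, h3, h⟩
    · have := base σ (!p) (!q) t v
      rw [show (σ : Perm (Fin n)) (pt hn 0) = j from h 0, show (σ : Perm (Fin n)) (pt hn 1) = i from h 1,
        show (σ : Perm (Fin n)) (pt hn 2) = l from h 2, show (σ : Perm (Fin n)) (pt hn 3) = k from h 3,
        ord_swap (!p) i j, ord_swap (!q) k l, Bool.not_not, Bool.not_not] at this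
      exact this
    · have := base σ (!p) (!q) t (-v)
      rw [show (σ : Perm (Fin n)) (pt hn 0) = j from h 0 (by decide) (by decide),
        show (σ : Perm (Fin n)) (pt hn 1) = i from h 1 (by decide) (by decide),
        show (σ : Perm (Fin n)) (pt hn 2) = k from h2, show (σ : Perm (Fin n)) (pt hn 3) = l from h3,
        ord_swap (!p) i j, Bool.not_not] at this
      have e : allS hn f s k l * f (ord q k l v) * allS hn f s k l = f (ord (!q) k l (-v)) := by
        cases q
        · show allS hn f s k l * f (T l k v) * allS hn f s k l = f (T k l (-v))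
          rw [S_symm Q hG hkl]; exact rel_inv Q hG hu hkl.symm v
        · exact rel_inv Q hG hu hkl v
      obtain ⟨s1, s2⟩ := S_prod Q hG hik hkl hil
      rw [← e, show allS hn f s i k * (allS hn f s k l * f (ord q k l v) * allS hn f s k l) * allS hn f s i k =
        (allS hn f s i k * allS hn f s k l) * f (ord q k l v) * (allS hn f s k l * allS hn f s i k) by group,
        s1, s2] at this
      exact this
  · obtain ⟨m, hm⟩ : ∃ m : Fin n, m ∉ ({i, j, k, l} : Finset (Fin n)) := by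
      by_contra! h
      have hle : (Finset.univ : Finset (Fin n)).card ≤ ({i, j, k, l} : Finset (Fin n)).card :=
        Finset.card_le_card fun x _ => h x
      have h4 : ({i, j, k, l} : Finset (Fin n)).card ≤ 4 := Finset.card_le_four
      rw [Finset.card_univ, Fintype.card_fin] at hle
      omega
    simp only [Finset.mem_insert, Finset.mem_singleton, not_or] at hm
    obtain ⟨mi, mj, mk, ml⟩ := hm
    obtain ⟨s1, s2⟩ := S_prod Q hG (Ne.symm mi) ml hil
    have e : allS hn f s i l * f (ord q k l v) * allS hn f s i l =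
        allS hn f s m l * f (ord q k l v) * allS hn f s m l := by
      conv_lhs => rw [← s2]; arg 2; rw [s2, ← s1]
      rw [show allS hn f s m l * allS hn f s i m * f (ord q k l v) * (allS hn f s i m * allS hn f s m l) =
        allS hn f s m l * (allS hn f s i m * f (ord q k l v) * allS hn f s i m) * allS hn f s m l by group,
        fixo (Ne.symm mi) hkl hik hil mk ml]
    rw [e, ← fixo ml hij mi mj hil.symm hjl.symm p t]
    have hc : Commute (f (ord p i j t)) (f (ord q k l v)) := by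
      refine Commute.map ?_ f
      cases p <;> cases q <;> refine (SLPres.slData n F).comm ?_ ?_ ?_ ?_ _ _ <;>
        first | exact hij | exact hij.symm | exact hkl | exact hkl.symm | exact hik | exact hil | exact hjk | exact hjl
    have := (Commute.conj_iff (allS hn f s m l)).2 hc
    rwa [inv_eq_of_mul_eq_one_right (S_sq Q hG ml)] at this

/-- The few relations give all. -/
theorem srel : SRel f (allS hn f s) where
  symm _ _ h := S_symm Q hG h
  sq _ _ h := S_sq Q hG h
  tri _ _ _ h1 h2 h3 := S_tri Q hG h1 h2 h3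
  cov τ _ _ h := S_cov Q hG τ h
  fix _ _ _ _ h1 h2 h3 h4 h5 h6 t := rel_fix Q hG hu h1 h2 h3 h4 h5 h6 t
  inv _ _ h t := rel_inv Q hG hu h t
  same _ _ _ h1 h2 h3 p q t v := rel_same Q hG hu hT h1 h2 h3 p q t v
  far _ _ _ _ h1 h2 h3 h4 h5 h6 p q t v := rel_far Q hG hu hT h1 h2 h3 h4 h5 h6 p q t v

end derive

section converse

variable {hn f} {S : Fin n → Fin n → G} (R : SRel f S)

include R

theorem few (u : SL2) (Gst : Set (alternatingGroup (Fin n))) (hst : ∀ σ ∈ Gst, Stab23 hn σ) (T' : Set SL2) :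
    Few hn f (S (pt hn 2) (pt hn 3)) u Gst T' := by
  have hp := pt_inj hn
  have h01 : pt hn 0 ≠ pt hn 1 := hp.ne (by decide)
  have h12 : pt hn 1 ≠ pt hn 2 := hp.ne (by decide)
  have h23 : pt hn 2 ≠ pt hn 3 := hp.ne (by decide)
  have hcs : ∀ σ, cs f (S (pt hn 2) (pt hn 3)) σ =
      S ((σ : Perm (Fin n)) (pt hn 2)) ((σ : Perm (Fin n)) (pt hn 3)) := fun σ => R.cov σ h23
  have c0 : cs f (S (pt hn 2) (pt hn 3)) (gb hn) = S (pt hn 0) (pt hn 1) := by
    rw [hcs, (gb2 hn).1, (gb2 hn).2]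
  have c1 : cs f (S (pt hn 2) (pt hn 3)) (c12 hn) = S (pt hn 1) (pt hn 2) := by
    rw [hcs, (c12_pt hn).1, (c12_pt hn).2]
  have c2 : cs f (S (pt hn 2) (pt hn 3)) (c02 hn) = S (pt hn 0) (pt hn 2) := by
    rw [hcs, (c02_pt hn).1, (c02_pt hn).2]
  refine ⟨fun σ hσ => ?_, ?_, fun _ => R.sq h23, ?_, ?_, ?_, ?_⟩
  · have e := R.cov σ h23
    have e2 : S ((σ : Perm (Fin n)) (pt hn 2)) ((σ : Perm (Fin n)) (pt hn 3)) = S (pt hn 2) (pt hn 3) := by
      rcases hst σ hσ with ⟨a, b⟩ | ⟨a, b⟩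
      · rw [a, b]
      · rw [a, b, R.symm h23.symm]
    rw [e2] at e
    exact ((mul_inv_eq_iff_eq_mul.1 e) : _ * _ = _ * _).symm
  · rw [c0, c1, c2]
    exact R.tri h01 h12 (hp.ne (by decide))
  · refine mul_inv_eq_iff_eq_mul.1 (DFunLike.congr_fun (sl2_ext
      (f := (MulAut.conj (S (pt hn 2) (pt hn 3))).toMonoidHom.comp (phi hn f)) (g := phi hn f)
      (fun t => ?_) fun t => ?_) u)
    · refine mul_inv_eq_iff_eq_mul.2 ?_
      rw [phi_up]
      exact (R.fix h23 h01 (hp.ne (by decide)) (hp.ne (by decide)) (hp.ne (by decide)) (hp.ne (by decide)) t).eq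
    · refine mul_inv_eq_iff_eq_mul.2 ?_
      rw [phi_low]
      exact (R.fix h23 h01.symm (hp.ne (by decide)) (hp.ne (by decide)) (hp.ne (by decide)) (hp.ne (by decide)) t).eq
  · rw [c0]
    have h := DFunLike.congr_fun (sl2_ext
      (f := (MulAut.conj (S (pt hn 0) (pt hn 1))).toMonoidHom.comp (phi hn f)) (g := (phi hn f).comp ws)
      (fun t => by
        show _ * phi hn f (up t) * (S _ _)⁻¹ = phi hn f (ws (up t))
        rw [R.S_inv h01, ws_up, phi_up, phi_low]
        exact R.inv h01 t)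
      fun t => by
        show _ * phi hn f (low t) * (S _ _)⁻¹ = phi hn f (ws (low t))
        rw [R.S_inv h01, ws_low, phi_up, phi_low, R.symm h01]
        exact R.inv h01.symm t) u
    change _ * phi hn f u * (S _ _)⁻¹ = _ at h
    rwa [R.S_inv h01] at h
  · intro x _
    rw [c1]
    have h := cc_of_gens (phi hn f)
      ((MulAut.conj (S (pt hn 1) (pt hn 2))).toMonoidHom.comp (phi hn f)) (fun p q t v => by
        show Commute (phi hn f _) (_ * phi hn f _ * (S _ _)⁻¹)
        rw [R.S_inv h12, phi_ord, phi_ord]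
        exact R.same h01 h12 (hp.ne (by decide)) p q t v) u x
    change Commute _ (_ * phi hn f x * (S _ _)⁻¹) at h
    rwa [R.S_inv h12] at h
  · intro _ x _
    rw [c1]
    have h := cc_of_gens (phi hn f)
      ((MulAut.conj (S (pt hn 1) (pt hn 2))).toMonoidHom.comp
        ((MulAut.conj (f (pm n F (gb hn)))).toMonoidHom.comp (phi hn f))) (fun p q t v => by
        show Commute (phi hn f _) (_ * (f (pm n F (gb hn)) * phi hn f _ * (f (pm n F (gb hn)))⁻¹) * (S _ _)⁻¹)
        rw [R.S_inv h12, phi_ord, phi_ord, pm_ord f (gb hn) h01, gb0, gb1]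
        have := R.far (i := pt hn 1) (j := pt hn 0) (k := pt hn 3) (l := pt hn 2) h01.symm h23.symm
          (hp.ne (by decide)) h12 (hp.ne (by decide)) (hp.ne (by decide)) (!p) (!q) t v
        rwa [ord_swap (!p) (pt hn 0) (pt hn 1), ord_swap (!q) (pt hn 2) (pt hn 3), Bool.not_not, Bool.not_not] at this) u x
    change Commute _ (_ * phi23 hn f x * (S _ _)⁻¹) at h
    rwa [R.S_inv h12] at h

end converse

end Cfsg.Agent.OmegaPres
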