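import Cfsg.Agent.Lib.OmegaPres.DUniv
import Cfsg.Agent.Lib.BoundedPres.SLn

/-!
A special linear group with sign changes of pairs of coordinates maps onto what the even orthogonal group is.
-/

set_option autoImplicit false
set_option linter.unusedSectionVars false
set_option linter.unusedSimpArgs false
set_option maxHeartbeats 1000000

namespace Cfsg.Agent.OmegaPres

open Matrix Equiv Cfsg.Agent.CTRec Cfsg.Agent.CTRec.DModel
open SL2Pres (up low)
open Cfsg.Agent.Orth (qPlus)
open Cfsg.Agent.BoundedPres (pm pm_conj exists_even sl_ext)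

variable {F : Type*} [Field F] {n : ℕ} {G : Type*} [Group G]

/-- A root of the pair of two indices, in either order. -/
def ord (p : Bool) (a b : Fin n) (t : F) : SpecialLinearGroup (Fin n) F :=
  if p then T a b t else T b a t

theorem ord_swap (p : Bool) (a b : Fin n) (t : F) : ord p b a t = ord (!p) a b t := by
  cases p <;> rfl

/-- Sign changes of pairs of coordinates over a special linear group. -/
structure SRel (f : SpecialLinearGroup (Fin n) F →* G) (S : Fin n → Fin n → G) : Prop where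
  symm : ∀ ⦃a b⦄, a ≠ b → S a b = S b a
  sq : ∀ ⦃a b⦄, a ≠ b → S a b * S a b = 1
  tri : ∀ ⦃a b c⦄, a ≠ b → b ≠ c → a ≠ c → S a b * S b c = S a c
  cov : ∀ (τ : alternatingGroup (Fin n)) ⦃a b⦄, a ≠ b →
    f (pm n F τ) * S a b * (f (pm n F τ))⁻¹ = S ((τ : Perm (Fin n)) a) ((τ : Perm (Fin n)) b)
  fix : ∀ ⦃a b c d⦄, a ≠ b → c ≠ d → a ≠ c → a ≠ d → b ≠ c → b ≠ d → ∀ t, Commute (S a b) (f (T c d t))
  inv : ∀ ⦃a b⦄, a ≠ b → ∀ t, S a b * f (T a b t) * S a b = f (T b a (-t))
  same : ∀ ⦃a b c⦄, a ≠ b → b ≠ c → a ≠ c → ∀ p q t u,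
    Commute (f (ord p a b t)) (S b c * f (ord q a b u) * S b c)
  far : ∀ ⦃i j k l⦄, i ≠ j → k ≠ l → i ≠ k → i ≠ l → j ≠ k → j ≠ l → ∀ p q t u,
    Commute (f (ord p i j t)) (S i l * f (ord q k l u) * S i l)

namespace SRel

variable {f : SpecialLinearGroup (Fin n) F →* G} {S : Fin n → Fin n → G} (R : SRel f S)

include R

theorem S_inv {a b : Fin n} (h : a ≠ b) : (S a b)⁻¹ = S a b := inv_eq_of_mul_eq_one_right (R.sq h)

theorem fix' {a b c d : Fin n} (h1 : a ≠ b) (h2 : c ≠ d) (h3 : a ≠ c) (h4 : a ≠ d) (h5 : b ≠ c) (h6 : b ≠ d)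
    (t : F) : S a b * f (T c d t) * S a b = f (T c d t) := by
  rw [(R.fix h1 h2 h3 h4 h5 h6 t).eq, mul_assoc, R.sq h1, mul_one]

theorem fix_ord {a b c d : Fin n} (h1 : a ≠ b) (h2 : c ≠ d) (h3 : a ≠ c) (h4 : a ≠ d) (h5 : b ≠ c) (h6 : b ≠ d)
    (p : Bool) (t : F) : S a b * f (ord p c d t) * S a b = f (ord p c d t) := by
  cases p
  exacts [R.fix' h1 h2.symm h4 h3 h6 h5 t, R.fix' h1 h2 h3 h4 h5 h6 t]

theorem inv_ord {a b : Fin n} (h : a ≠ b) (p : Bool) (t : F) :
    S a b * f (ord p a b t) * S a b = f (ord (!p) a b (-t)) := by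
  cases p
  · show S a b * f (T b a t) * S a b = f (T a b (-t))
    rw [R.symm h]; exact R.inv h.symm t
  · exact R.inv h t

theorem tri' {x y z : Fin n} (hxy : x ≠ y) (hyz : y ≠ z) (hxz : x ≠ z) :
    S x z = S y z * S x y := by
  rw [R.symm hxz, ← R.tri hyz.symm hxy.symm hxz.symm, R.symm hyz, R.symm hxy]

/-- The `SL₂`-monomial of a pair commutes with its sign change and moves the others as a transposition. -/
theorem sq_mono_commute {a b c : Fin n} (hab : a ≠ b) (hbc : b ≠ c) (hac : a ≠ c) (n0 : SpecialLinearGroup (Fin n) F)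
    (h1 : Commute (f n0) (S a b)) (h2 : f n0 * S b c * (f n0)⁻¹ = S a c) :
    Commute (f n0 * f n0) (S b c) := by
  have h3 : f n0 * S a c * (f n0)⁻¹ = S b c := by
    conv_lhs => rw [← R.tri hab hbc hac]
    rw [← mul_assoc, h1.eq, mul_assoc (S a b), mul_assoc (S a b), h2, R.symm hab, R.tri hab.symm hac hbc]
  show f n0 * f n0 * S b c = S b c * (f n0 * f n0)
  rw [← mul_inv_eq_iff_eq_mul, _root_.mul_inv_rev,
    show f n0 * f n0 * S b c * ((f n0)⁻¹ * (f n0)⁻¹) = f n0 * (f n0 * S b c * (f n0)⁻¹) * (f n0)⁻¹ by group,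
    h2, h3]

end SRel

variable [Finite F] (hn : 4 ≤ n)

/-- The embedding behind a node. -/
noncomputable def th (i : Fin n) : SpecialLinearGroup (Fin 2) F →* SpecialLinearGroup (Fin n) F :=
  (exists_root F (show 3 ≤ n by omega)
    (ix_ne hn (i := nA n i) (j := nA n i + 1) (by unfold nA; split_ifs <;> omega)
      (by unfold nA; split_ifs <;> omega) (by omega))).choose

theorem th_vals (i : Fin n) (t : F) :
    th hn i (up t) = T (ix hn (nA n i)) (ix hn (nA n i + 1)) t ∧
      th hn i (low t) = T (ix hn (nA n i + 1)) (ix hn (nA n i)) t :=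
  (exists_root F (show 3 ≤ n by omega)
    (ix_ne hn (i := nA n i) (j := nA n i + 1) (by unfold nA; split_ifs <;> omega)
      (by unfold nA; split_ifs <;> omega) (by omega))).choose_spec t

theorem th_low {i : ℕ} (hi : i + 1 < n) (t : F) :
    th hn ⟨i, by omega⟩ (up t) = T (ix hn i) (ix hn (i + 1)) t ∧
      th hn ⟨i, by omega⟩ (low t) = T (ix hn (i + 1)) (ix hn i) t := by
  have h := th_vals (F := F) hn ⟨i, by omega⟩ t
  rwa [show nA n (⟨i, by omega⟩ : Fin n) = i from by
    show (if i + 1 = n then n - 2 else i) = i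
    rw [if_neg (by omega)]] at h

theorem th_last (t : F) :
    th hn ⟨n - 1, by omega⟩ (up t) = T (ix hn (n - 2)) (lst hn) t ∧
      th hn ⟨n - 1, by omega⟩ (low t) = T (lst hn) (ix hn (n - 2)) t := by
  have h := th_vals (F := F) hn ⟨n - 1, by omega⟩ t
  rwa [show nA n (⟨n - 1, by omega⟩ : Fin n) = n - 2 from by unfold nA; rw [if_pos (by simp; omega)],
    show n - 2 + 1 = n - 1 by omega] at h

/-- The first index. -/
abbrev fst0 : Fin n := ix hn 0

theorem fst_ne_lst : fst0 hn ≠ lst hn := lt_last hn (by omega)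

variable {f : SpecialLinearGroup (Fin n) F →* G} {S : Fin n → Fin n → G} (R : SRel f S)

/-- The family in the target. -/
noncomputable def fψ (f : SpecialLinearGroup (Fin n) F →* G) (S : Fin n → Fin n → G) (i : ℕ) :
    SpecialLinearGroup (Fin 2) F →* G :=
  if h : i < n then
    if i + 1 = n then (MulAut.conj (S (fst0 hn) (lst hn))).toMonoidHom.comp (f.comp (th hn ⟨i, h⟩))
    else f.comp (th hn ⟨i, h⟩)
  else 1

theorem fψ_low (f : SpecialLinearGroup (Fin n) F →* G) (S : Fin n → Fin n → G) {i : ℕ} (hi : i + 1 < n) :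
    fψ hn f S i = f.comp (th hn ⟨i, by omega⟩) := by
  rw [fψ, dif_pos (by omega), if_neg (by omega)]

include R

theorem fψ_last (x : SpecialLinearGroup (Fin 2) F) :
    fψ hn f S (n - 1) x = S (fst0 hn) (lst hn) * f (th hn ⟨n - 1, by omega⟩ x) * S (fst0 hn) (lst hn) := by
  rw [fψ, dif_pos (by omega), if_pos (by omega)]
  show _ * _ * (S (fst0 hn) (lst hn))⁻¹ = _
  rw [R.S_inv (fst_ne_lst hn)]
  rfl

theorem fψ_last_up (t : F) :
    fψ hn f S (n - 1) (up t) = S (fst0 hn) (lst hn) * f (T (ix hn (n - 2)) (lst hn) t) * S (fst0 hn) (lst hn) ∧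
    fψ hn f S (n - 1) (low t) = S (fst0 hn) (lst hn) * f (T (lst hn) (ix hn (n - 2)) t) * S (fst0 hn) (lst hn) := by
  rw [fψ_last hn R, fψ_last hn R, (th_last hn t).1, (th_last hn t).2]
  exact ⟨rfl, rfl⟩

theorem last_fix {a b : ℕ} (ha : a + 1 < n) (hb : b + 1 < n) (h0 : a ≠ 0) (h0' : b ≠ 0) (hab : a ≠ b) (t : F) :
    S (fst0 hn) (lst hn) * f (T (ix hn a) (ix hn b) t) * S (fst0 hn) (lst hn) = f (T (ix hn a) (ix hn b) t) :=
  R.fix' (fst_ne_lst hn) (ix_ne hn (by omega) (by omega) hab) (ix_ne hn (by omega) (by omega) (Ne.symm h0))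
    (ix_ne hn (by omega) (by omega) (Ne.symm h0')) (lt_last hn ha).symm (lt_last hn hb).symm t

theorem fam_pair {i j : ℕ} (hi : i < n) (hj : j < n) (h : DAdj n i j) :
    ∃ Ψ : SpecialLinearGroup (Fin 3) F →* G, Ψ.comp emb01 = fψ hn f S i ∧ Ψ.comp emb12 = fψ hn f S j := by
  have gen : ∀ i j, i < n → j < n → DAdj n i j → i < j →
      ∃ Ψ : SpecialLinearGroup (Fin 3) F →* G,
        Ψ.comp emb01 = fψ hn f S i ∧ Ψ.comp emb12 = fψ hn f S j := by
    intro i j hi hj h hlt
    unfold DAdj at h
    rcases (show (j = i + 1 ∧ j + 1 < n) ∨ (i = n - 3 ∧ j = n - 1) by omega) with ⟨rfl, hj'⟩ | ⟨rfl, rfl⟩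
    · obtain ⟨Ψ, hΨ⟩ := exists_sl3 (F := F)
        (ix_ne hn (i := i) (j := i + 1) (by omega) (by omega) (by omega))
        (ix_ne hn (i := i) (j := i + 1 + 1) (by omega) (by omega) (by omega))
        (ix_ne hn (i := i + 1) (j := i + 1 + 1) (by omega) (by omega) (by omega))
      rw [fψ_low hn f S (show i + 1 < n by omega), fψ_low hn f S hj']
      exact ⟨f.comp Ψ,
        hom_ext (fun t => by simp [(hΨ t).1, (th_low hn (show i + 1 < n by omega) t).1])
          (fun t => by simp [(hΨ t).2.1, (th_low hn (show i + 1 < n by omega) t).2]),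
        hom_ext (fun t => by simp [(hΨ t).2.2.1, (th_low hn hj' t).1])
          (fun t => by simp [(hΨ t).2.2.2, (th_low hn hj' t).2])⟩
    · have e : n - 3 + 1 = n - 2 := by omega
      have a1 := lt_last hn (k := n - 3) (by omega)
      have a2 := lt_last hn (k := n - 2) (by omega)
      have a12 := ix_ne hn (i := n - 3) (j := n - 2) (by omega) (by omega) (by omega)
      obtain ⟨Ψ, hΨ⟩ := exists_sl3 (F := F) a12 a1 a2
      have u := fun t => th_low (F := F) hn (i := n - 3) (by omega) t
      simp only [e] at u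
      have cj : ∀ x, (MulAut.conj (S (fst0 hn) (lst hn))).toMonoidHom x =
          S (fst0 hn) (lst hn) * x * S (fst0 hn) (lst hn) := fun x => by
        show _ * _ * (S (fst0 hn) (lst hn))⁻¹ = _
        rw [R.S_inv (fst_ne_lst hn)]
      refine ⟨(MulAut.conj (S (fst0 hn) (lst hn))).toMonoidHom.comp (f.comp Ψ),
        hom_ext (fun t => ?_) (fun t => ?_), hom_ext (fun t => ?_) (fun t => ?_)⟩ <;>
        simp only [MonoidHom.comp_apply, cj, fψ_low hn f S (show n - 3 + 1 < n by omega)]
      · rw [(hΨ t).1, (u t).1, last_fix hn R (by omega) (by omega) (by omega) (by omega) (by omega)]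
      · rw [(hΨ t).2.1, (u t).2, last_fix hn R (by omega) (by omega) (by omega) (by omega) (by omega)]
      · rw [(hΨ t).2.2.1, (fψ_last_up hn R t).1]
      · rw [(hΨ t).2.2.2, (fψ_last_up hn R t).2]
  rcases Nat.lt_or_ge i j with hlt | hge
  · exact gen i j hi hj h hlt
  · have hne : i ≠ j := fun e => by unfold DAdj at h; omega
    obtain ⟨Ψ, h1, h2⟩ := gen j i hj hi h.symm (by omega)
    refine ⟨Ψ.comp swapBlocks, ?_, ?_⟩
    · ext x : 1; show Ψ (swapBlocks (emb01 x)) = _; rw [swapBlocks_emb01]; exact DFunLike.congr_fun h2 x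
    · ext x : 1; show Ψ (swapBlocks (emb12 x)) = _; rw [swapBlocks_emb12]; exact DFunLike.congr_fun h1 x

omit R in
theorem cc_of_gens {M : Type*} [Group M] (φ χ : SpecialLinearGroup (Fin 2) F →* M)
    (h : ∀ p q : Bool, ∀ t u, Commute (φ (if p then up t else low t)) (χ (if q then up u else low u))) :
    ∀ x y, Commute (φ x) (χ y) := by
  have cc : CC φ.range χ.range := by
    rw [MonoidHom.range_eq_map, MonoidHom.range_eq_map, ← upS_sup_lowS, Subgroup.map_sup, Subgroup.map_sup]
    refine CC.sup_left (CC.sup_right ?_ ?_) (CC.sup_right ?_ ?_) <;>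
      rintro _ ⟨_, ⟨t, rfl⟩, rfl⟩ _ ⟨_, ⟨u, rfl⟩, rfl⟩
    exacts [h true true t u, h true false t u, h false true t u, h false false t u]
  exact fun x y => cc _ ⟨x, rfl⟩ _ ⟨y, rfl⟩

theorem fam_far {i j : ℕ} (hi : i < n) (hj : j < n) (hij : i ≠ j) (h : ¬ DAdj n i j) :
    ∀ x y, Commute (fψ hn f S i x) (fψ hn f S j y) := by
  have gen : ∀ i j, i < n → j < n → i < j → ¬ DAdj n i j →
      ∀ x y, Commute (fψ hn f S i x) (fψ hn f S j y) := by
    intro i j hi hj hlt h
    unfold DAdj at h
    refine cc_of_gens _ _ fun p q t u => ?_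
    have hi1 : i + 1 < n := by omega
    have n01 := ix_ne hn (i := i) (j := i + 1) (by omega) (by omega) (by omega)
    rw [show fψ hn f S i (if p then up t else low t) = f (ord p (ix hn i) (ix hn (i + 1)) t) by
      cases p <;> simp [ord, fψ_low hn f S hi1, (th_low hn hi1 t).1, (th_low hn hi1 t).2]]
    by_cases hjn : j + 1 = n
    · obtain rfl : j = n - 1 := by omega
      rw [show fψ hn f S (n - 1) (if q then up u else low u) =
        S (fst0 hn) (lst hn) * f (ord q (ix hn (n - 2)) (lst hn) u) * S (fst0 hn) (lst hn) by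
        cases q <;> simp [ord, (fψ_last_up hn R u).1, (fψ_last_up hn R u).2]]
      have hb : ix hn (n - 2) ≠ lst hn := lt_last hn (by omega)
      have h0b : fst0 hn ≠ ix hn (n - 2) := ix_ne hn (by omega) (by omega) (by omega)
      by_cases hin : i + 2 = n
      · obtain rfl : i = n - 2 := by omega
        rw [show ix hn (n - 2 + 1) = lst hn by rw [show n - 2 + 1 = n - 1 by omega], R.symm (fst_ne_lst hn)]
        exact R.same hb (fst_ne_lst hn).symm h0b.symm p q t u
      have a1 := lt_last hn (k := i) (by omega)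
      have a2 := lt_last hn (k := i + 1) (by omega)
      have b1 : ix hn i ≠ ix hn (n - 2) := ix_ne hn (by omega) (by omega) (by omega)
      have b2 : ix hn (i + 1) ≠ ix hn (n - 2) := ix_ne hn (by omega) (by omega) (by omega)
      rcases Nat.eq_zero_or_pos i with rfl | hpos
      · exact R.far n01 hb b1 a1 b2 a2 p q t u
      · have c1 : fst0 hn ≠ ix hn i := ix_ne hn (by omega) (by omega) (by omega)
        have c2 : fst0 hn ≠ ix hn (i + 1) := ix_ne hn (by omega) (by omega) (by omega)
        rw [← R.fix_ord (fst_ne_lst hn) n01 c1 c2 a1.symm a2.symm p t]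
        have hc : Commute (f (ord p (ix hn i) (ix hn (i + 1)) t)) (f (ord q (ix hn (n - 2)) (lst hn) u)) := by
          refine Commute.map ?_ f
          cases p <;> cases q <;> refine (SLPres.slData n F).comm ?_ ?_ ?_ ?_ _ _ <;>
            first | exact n01 | exact n01.symm | exact hb | exact hb.symm | exact a1 | exact a2 | exact b1 | exact b2
        have := hc.map (MulAut.conj (S (fst0 hn) (lst hn))).toMonoidHom
        simpa [R.S_inv (fst_ne_lst hn)] using this
    · have hj1 : j + 1 < n := by omega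
      rw [show fψ hn f S j (if q then up u else low u) = f (ord q (ix hn j) (ix hn (j + 1)) u) by
        cases q <;> simp [ord, fψ_low hn f S hj1, (th_low hn hj1 u).1, (th_low hn hj1 u).2]]
      refine Commute.map ?_ f
      cases p <;> cases q <;> exact (SLPres.slData n F).comm (ix_ne hn (by omega) (by omega) (by omega))
          (ix_ne hn (by omega) (by omega) (by omega)) (ix_ne hn (by omega) (by omega) (by omega))
          (ix_ne hn (by omega) (by omega) (by omega)) _ _
  intro x y
  rcases Nat.lt_or_ge i j with hlt | hge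
  · exact gen i j hi hj hlt h x y
  · exact (gen j i hj hi (by omega) (fun h' => h h'.symm) y x).symm

/-- The family. -/
noncomputable def fFam : DFam F G n where
  ψ := fψ hn f S
  pair _ _ hi hj h := fam_pair hn R hi hj h
  far _ _ hi hj hij h := fam_far hn R hi hj hij h

omit R in
theorem cyc_mono {a b c : Fin n} (hab : a ≠ b) (hbc : b ≠ c) (hac : a ≠ c) :
    pm n F (BoundedPres.dswap hab hbc) = T a b (-1) * T b a 1 * T a b (-1) *
      (T b c (-1) * T c b 1 * T b c (-1)) := by
  apply Subtype.ext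
  refine Matrix.ext_iff_mulVec.2 fun x => ?_
  simp only [vMul, ← Matrix.mulVec_mulVec, T_mulVec hab, T_mulVec hab.symm, T_mulVec hbc, T_mulVec hbc.symm]
  change ((BoundedPres.dswap hab hbc : Perm (Fin n))⁻¹).permMatrix F *ᵥ x = _
  rw [Matrix.permMatrix_mulVec]
  have hba := hab.symm
  have hcb := hbc.symm
  have hca := hac.symm
  funext i
  by_cases h1 : i = a
  · subst h1; simp [BoundedPres.dswap, swap_apply_def, Perm.inv_def, hab, hbc, hac, hba, hcb, hca]
  by_cases h2 : i = b
  · subst h2; simp [BoundedPres.dswap, swap_apply_def, Perm.inv_def, hab, hbc, hac, hba, hcb, hca]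
  by_cases h3 : i = c
  · subst h3; simp [BoundedPres.dswap, swap_apply_def, Perm.inv_def, hab, hbc, hac, hba, hcb, hca]
  simp [BoundedPres.dswap, swap_apply_def, Perm.inv_def, h1, h2, h3]

omit R in
theorem mono_braid {a b : Fin n} (hab : a ≠ b) :
    (T b a 1 * T a b (-1) * T b a 1 : SpecialLinearGroup (Fin n) F) = T a b (-1) * T b a 1 * T a b (-1) := by
  have hba := hab.symm
  apply Subtype.ext
  refine Matrix.ext_iff_mulVec.2 fun x => ?_
  simp only [vMul, ← Matrix.mulVec_mulVec, T_mulVec hab, T_mulVec hab.symm]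
  funext i
  by_cases h1 : i = a
  · subst h1; simp [hab, hba]
  by_cases h2 : i = b
  · subst h2; simp [hab, hba]
  simp [h1, h2]

theorem mono_S {a b : Fin n} (hab : a ≠ b) :
    Commute (f (T a b (-1) * T b a 1 * T a b (-1))) (S a b) := by
  have e : S a b * f (T a b (-1) * T b a 1 * T a b (-1)) * S a b = f (T a b (-1) * T b a 1 * T a b (-1)) := by
    have i1 := R.inv hab (-1)
    have i2 := R.inv hab.symm 1
    rw [R.symm hab.symm] at i2
    rw [neg_neg] at i1
    conv_rhs => rw [← mono_braid (F := F) hab]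
    simp only [map_mul]
    rw [← i1, ← i2]
    simp only [mul_assoc, show ∀ x, S a b * (S a b * x) = x from fun x => by rw [← mul_assoc, R.sq hab, one_mul],
      R.sq hab, mul_one]
  show _ * S a b = S a b * _
  conv_lhs => rw [← e]
  rw [mul_assoc _ (S a b), R.sq hab, mul_one]

theorem mono_move {a b c : Fin n} (hab : a ≠ b) (hbc : b ≠ c) (hac : a ≠ c) :
    f (T a b (-1) * T b a 1 * T a b (-1)) * S b c * (f (T a b (-1) * T b a 1 * T a b (-1)))⁻¹ = S a c := by
  have h := R.cov (BoundedPres.dswap hab hbc) hbc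
  rw [show (BoundedPres.dswap hab hbc : Perm (Fin n)) b = c by
      simp [BoundedPres.dswap, swap_apply_def, hab, hbc, hac, hab.symm, hbc.symm, hac.symm],
    show (BoundedPres.dswap hab hbc : Perm (Fin n)) c = a by
      simp [BoundedPres.dswap, swap_apply_def, hab, hbc, hac, hab.symm, hbc.symm, hac.symm],
    R.symm hac.symm, cyc_mono hab hbc hac, map_mul, _root_.mul_inv_rev] at h
  rw [← h]
  have hc := (mono_S R hbc).eq
  set N := f (T b c (-1) * T c b 1 * T b c (-1))
  set M := f (T a b (-1) * T b a 1 * T a b (-1))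
  rw [mul_assoc M N, hc]
  group

theorem fam_hz : fψ hn f S (n - 2) (dgHom (-1 : Fˣ)) * fψ hn f S (n - 1) (dgHom (-1 : Fˣ)) = 1 := by
  set a := ix hn (n - 2)
  set l := lst hn
  set c := fst0 hn
  have hal : a ≠ l := lt_last hn (by omega)
  have hcl : c ≠ l := fst_ne_lst hn
  have hca : c ≠ a := ix_ne hn (by omega) (by omega) (by omega)
  have ea : ix hn (n - 2 + 1) = l := by rw [show n - 2 + 1 = n - 1 by omega]
  let n0 : SpecialLinearGroup (Fin n) F := T a l (-1) * T l a 1 * T a l (-1)
  have hd : (dgHom (-1 : Fˣ) : SpecialLinearGroup (Fin 2) F) =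
      up (-1) * low 1 * up (-1) * (up (-1) * low 1 * up (-1)) := by
    apply Subtype.ext
    simp only [vMul, SL2Pres.up_val, SL2Pres.low_val, dgHom_val]
    ext i j
    fin_cases i <;> fin_cases j <;> simp [Matrix.mul_apply, Fin.sum_univ_two]
  have ta : th hn ⟨n - 2, by omega⟩ (dgHom (-1 : Fˣ)) = n0 * n0 := by
    have u := fun t => th_low (F := F) hn (i := n - 2) (by omega) t
    simp only [ea] at u
    rw [hd]
    simp only [map_mul, (u _).1, (u _).2]
    rfl
  have tb : th hn ⟨n - 1, by omega⟩ (dgHom (-1 : Fˣ)) = n0 * n0 := by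
    rw [hd]
    simp only [map_mul, (th_last hn _).1, (th_last hn _).2]
    rfl
  have hcomm : Commute (f n0 * f n0) (S c l) := by
    rw [R.symm hcl]
    exact R.sq_mono_commute hal hcl.symm hca.symm n0 (mono_S R hal) (mono_move R hal hcl.symm hca.symm)
  have h2 : f n0 * f n0 * (f n0 * f n0) = 1 := by
    rw [← map_mul, ← map_mul, ← map_one f]
    congr 1
    rw [← ta, ← map_mul, ← map_mul, neg_one_mul, neg_neg, map_one, map_one]
  rw [fψ_low hn f S (show n - 2 + 1 < n by omega), fψ_last hn R, MonoidHom.comp_apply, ta, tb, map_mul,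
    ← hcomm.eq, mul_assoc (f n0 * f n0) (S c l) (S c l), R.sq hcl, mul_one, h2]

/-- The group generated by the family. -/
noncomputable def fgen (f : SpecialLinearGroup (Fin n) F →* G) (S : Fin n → Fin n → G) : Subgroup G :=
  ⨆ (i) (_ : i < n), (fψ hn f S i).range

omit R in
theorem fψ_mem {i : ℕ} (hi : i < n) (x : SpecialLinearGroup (Fin 2) F) :
    fψ hn f S i x ∈ fgen hn f S :=
  le_iSup₂ (f := fun i (_ : i < n) => (fψ hn f S i).range) i hi ⟨x, rfl⟩

theorem f_mem (x : SpecialLinearGroup (Fin n) F) : f x ∈ fgen hn f S := by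
  haveI : Nontrivial (Fin n) := Fin.nontrivial_iff_two_le.2 (by omega)
  have hx : x ∈ Subgroup.closure {g : SpecialLinearGroup (Fin n) F | ∃ a b, a ≠ b ∧ ∃ t, g = T a b t} := by
    have h := ClassicalSL.closure_elemTransvections (ι := Fin n) (F := F)
    refine (Subgroup.closure_mono ?_) (h ▸ Subgroup.mem_top x)
    rintro _ ⟨a, b, hab, t, rfl⟩
    exact ⟨a, b, hab, t, (SLPres.slData_y hab t).symm⟩
  refine (Subgroup.closure_le ((fgen hn f S).comap f)).2 ?_ hx
  rintro _ ⟨a, b, hab, t, rfl⟩
  refine adj_gen hn ((fgen hn f S).comap f) (fun i hi t => ⟨?_, ?_⟩) a b hab t <;> rw [Subgroup.mem_comap]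
  · rw [← (th_low hn hi t).1]
    have := fψ_mem hn (f := f) (S := S) (show i < n by omega) (up t)
    rwa [fψ_low hn f S hi] at this
  · rw [← (th_low hn hi t).2]
    have := fψ_mem hn (f := f) (S := S) (show i < n by omega) (low t)
    rwa [fψ_low hn f S hi] at this

theorem moved_mem {x z y : Fin n} (hxz : x ≠ z) (hzy : z ≠ y) (hxy : x ≠ y) (p : Bool) (t : F) :
    S x z * f (ord p x y t) * S x z ∈ fgen hn f S := by
  set a := ix hn (n - 2)
  set l := lst hn
  set c := fst0 hn
  have hal : a ≠ l := lt_last hn (by omega)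
  have hcl : c ≠ l := fst_ne_lst hn
  have hca : c ≠ a := ix_ne hn (by omega) (by omega) (by omega)
  have base : ∀ p t, S l c * f (ord p l a t) * S l c ∈ fgen hn f S := by
    intro p t
    rw [R.symm hcl.symm]
    cases p
    · exact (fψ_last_up hn R t).1 ▸ fψ_mem hn (show n - 1 < n by omega) _
    · exact (fψ_last_up hn R t).2 ▸ fψ_mem hn (show n - 1 < n by omega) _
  have move : ∀ (σ : alternatingGroup (Fin n)) p t, S ((σ : Perm (Fin n)) l) ((σ : Perm (Fin n)) c) *
      f (ord p ((σ : Perm (Fin n)) l) ((σ : Perm (Fin n)) a) t) *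
      S ((σ : Perm (Fin n)) l) ((σ : Perm (Fin n)) c) ∈ fgen hn f S := by
    intro σ p t
    have hm := f_mem hn R (pm n F σ)
    have h := mul_mem (mul_mem hm (base p t)) (inv_mem hm)
    rw [← R.cov σ hcl.symm]
    have e : pm n F σ * ord p l a t * (pm n F σ)⁻¹ = ord p ((σ : Perm (Fin n)) l) ((σ : Perm (Fin n)) a) t := by
      cases p <;> exact pm_conj σ (by first | exact hal | exact hal.symm) t
    rw [← e, map_mul, map_mul, map_inv]
    convert h using 1
    group
  obtain ⟨σ, hσ⟩ := exists_even ![l, c, a] ![x, z, y]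
    (by intro u v; fin_cases u <;> fin_cases v <;> simp [hcl, hcl.symm, hca, hca.symm, hal, hal.symm])
    (by intro u v; fin_cases u <;> fin_cases v <;> simp [hxz, hxz.symm, hzy, hzy.symm, hxy, hxy.symm])
    (show (0 : Fin 3) ≠ 2 by decide)
  rcases hσ with h | ⟨h0, h2, h1⟩
  · have := move σ p t
    rwa [show (σ : Perm (Fin n)) l = x from h 0, show (σ : Perm (Fin n)) c = z from h 1,
      show (σ : Perm (Fin n)) a = y from h 2] at this
  · have := move σ p (-t)
    rw [show (σ : Perm (Fin n)) l = y from h0, show (σ : Perm (Fin n)) a = x from h2,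
      show (σ : Perm (Fin n)) c = z from h1 1 (by decide) (by decide), ord_swap] at this
    have e : S x z * f (ord p x y t) * S x z = S y z * (S x y * f (ord p x y t) * S x y) * S y z := by
      conv_lhs =>
        arg 2
        rw [← R.tri hxy hzy.symm hxz]
      rw [R.tri' hxy hzy.symm hxz]
      simp only [mul_assoc]
    rwa [e, R.inv_ord hxy]

theorem conj_f_mem {x : Fin n} {z : Fin n} (hxz : x ≠ z) (g : SpecialLinearGroup (Fin n) F) :
    S x z * f g * S x z ∈ fgen hn f S := by
  haveI : Nontrivial (Fin n) := Fin.nontrivial_iff_two_le.2 (by omega)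
  have h := ClassicalSL.closure_elemTransvections (ι := Fin n) (F := F)
  have : g ∈ (((fgen hn f S).comap (MulAut.conj (S x z)).toMonoidHom).comap f) := by
    refine (Subgroup.closure_le _).2 ?_ (h ▸ Subgroup.mem_top g)
    rintro _ ⟨a, b, hab, t, rfl⟩
    show S x z * f _ * (S x z)⁻¹ ∈ fgen hn f S
    rw [R.S_inv hxz, ← SLPres.slData_y hab t]
    show S x z * f (T a b t) * S x z ∈ fgen hn f S
    by_cases hax : a = x
    · subst hax
      by_cases hbz : b = z
      · subst hbz; rw [R.inv hxz]; exact f_mem hn R _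
      · exact moved_mem hn R hxz (Ne.symm hbz) hab true t
    by_cases haz : a = z
    · subst haz
      rw [R.symm hxz]
      by_cases hbx : b = x
      · subst hbx; rw [R.inv hxz.symm]; exact f_mem hn R _
      · exact moved_mem hn R hxz.symm (Ne.symm hbx) hab true t
    by_cases hbx : b = x
    · subst hbx
      exact moved_mem hn R hxz (Ne.symm haz) hab.symm false t
    by_cases hbz : b = z
    · subst hbz
      rw [R.symm hxz]
      exact moved_mem hn R hxz.symm (Ne.symm hax) hab.symm false t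
    rw [R.fix' hxz hab (Ne.symm hax) (Ne.symm hbx) (Ne.symm haz) (Ne.symm hbz)]
    exact f_mem hn R _
  have h2 : S x z * f g * (S x z)⁻¹ ∈ fgen hn f S := this
  rwa [R.S_inv hxz] at h2

theorem S_mem {a b : Fin n} (hab : a ≠ b) : S a b ∈ fgen hn f S := by
  set D := fgen hn f S
  set s0 := S (fst0 hn) (lst hn)
  have h0 := fst_ne_lst hn
  have hsD : ∀ d ∈ D, s0 * d * s0 ∈ D := by
    have hle : D ≤ D.comap (MulAut.conj s0).toMonoidHom := by
      refine iSup₂_le fun i hi => ?_
      rintro _ ⟨x, rfl⟩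
      show s0 * fψ hn f S i x * s0⁻¹ ∈ D
      rw [R.S_inv h0]
      by_cases h : i + 1 = n
      · obtain rfl : i = n - 1 := by omega
        rw [fψ_last hn R]
        show s0 * (s0 * _ * s0) * s0 ∈ D
        rw [show s0 * (s0 * f (th hn ⟨n - 1, by omega⟩ x) * s0) * s0 =
          s0 * s0 * f (th hn ⟨n - 1, by omega⟩ x) * (s0 * s0) by group, R.sq h0, one_mul, mul_one]
        exact f_mem hn R _
      · rw [fψ_low hn f S (by omega)]
        exact conj_f_mem hn R h0 _
    intro d hd
    have h2 : s0 * d * s0⁻¹ ∈ D := hle hd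
    rwa [R.S_inv h0] at h2
  have hd : ∀ a b : Fin n, a ≠ b → S a b * s0 ∈ D := by
    intro a b hab
    obtain ⟨σ, hσ⟩ := exists_even ![fst0 hn, lst hn] ![a, b]
      (by intro u v; fin_cases u <;> fin_cases v <;> simp [h0, h0.symm])
      (by intro u v; fin_cases u <;> fin_cases v <;> simp [hab, hab.symm])
      (show (0 : Fin 2) ≠ 1 by decide)
    have hS : S a b = f (pm n F σ) * s0 * (f (pm n F σ))⁻¹ := by
      rw [R.cov σ h0]
      rcases hσ with h | ⟨h1, h2, -⟩
      · rw [show (σ : Perm (Fin n)) (fst0 hn) = a from h 0, show (σ : Perm (Fin n)) (lst hn) = b from h 1]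
      · rw [show (σ : Perm (Fin n)) (fst0 hn) = b from h1, show (σ : Perm (Fin n)) (lst hn) = a from h2,
          R.symm hab]
    rw [hS, mul_assoc (f _ * s0), mul_assoc (f _), ← mul_assoc s0]
    exact mul_mem (f_mem hn R _) (hsD _ (inv_mem (f_mem hn R _)))
  obtain ⟨c, hac, hbc⟩ := SLPres.Data.exists_third (show 3 ≤ n by omega) a b
  have h := mul_mem (hd a c hac) (hsD _ (hd c b hbc.symm))
  rwa [show S a c * s0 * (s0 * (S c b * s0) * s0) = S a c * (s0 * s0) * S c b * (s0 * s0) by group,
    R.sq h0, mul_one, mul_one, R.tri hac hbc.symm hab] at h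

omit R

/-- Two copies. -/
theorem SRel.prod {M : Type*} [Group M] {g : SpecialLinearGroup (Fin n) F →* M} {T' : Fin n → Fin n → M}
    {f : SpecialLinearGroup (Fin n) F →* G} {S : Fin n → Fin n → G}
    (R : SRel f S) (R' : SRel g T') : SRel (f.prod g) fun a b => (S a b, T' a b) where
  symm _ _ h := Prod.ext (R.symm h) (R'.symm h)
  sq _ _ h := Prod.ext (R.sq h) (R'.sq h)
  tri _ _ _ h1 h2 h3 := Prod.ext (R.tri h1 h2 h3) (R'.tri h1 h2 h3)
  cov τ _ _ h := Prod.ext (R.cov τ h) (R'.cov τ h)
  fix _ _ _ _ h1 h2 h3 h4 h5 h6 t := Commute.prod (R.fix h1 h2 h3 h4 h5 h6 t) (R'.fix h1 h2 h3 h4 h5 h6 t)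
  inv _ _ h t := Prod.ext (R.inv h t) (R'.inv h t)
  same _ _ _ h1 h2 h3 p q t u := Commute.prod (R.same h1 h2 h3 p q t u) (R'.same h1 h2 h3 p q t u)
  far _ _ _ _ h1 h2 h3 h4 h5 h6 p q t u :=
    Commute.prod (R.far h1 h2 h3 h4 h5 h6 p q t u) (R'.far h1 h2 h3 h4 h5 h6 p q t u)

variable (F n) in
/-- The sign changes of the model. -/
def sgn (a b : Fin n) : Iso F n := DModel.flip a * DModel.flip b

omit [Finite F] in
theorem flip_comm (a b : Fin n) : DModel.flip (F := F) a * DModel.flip b = DModel.flip b * DModel.flip a := by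
  refine act_ext fun v => ?_
  rw [act_mul, act_mul, flip_act, flip_act, flip_act, flip_act]
  funext i
  rcases i with i | i <;> simp only [Function.comp_apply, flipIdx_inl, flipIdx_inr] <;>
    by_cases ha : i = a <;> by_cases hb : i = b <;> simp_all [flipIdx_inl, flipIdx_inr]

omit [Finite F] in
theorem flip_sq (a : Fin n) : DModel.flip (F := F) a * DModel.flip a = 1 := by
  conv_lhs => arg 2; rw [← flip_inv]
  exact mul_inv_cancel _

omit [Finite F] in
theorem flip_levi_comm {c a b : Fin n} (hab : a ≠ b) (ha : a ≠ c) (hb : b ≠ c) (t : F) :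
    DModel.flip c * levi (T a b t) = levi (T a b t) * DModel.flip c := by
  have h := levi'_T_fix (F := F) hab ha hb t
  change DModel.flip c * levi (T a b t) * (DModel.flip c)⁻¹ = levi (T a b t) at h
  exact mul_inv_eq_iff_eq_mul.1 h

omit [Finite F] in
theorem pm_levi_act (τ : alternatingGroup (Fin n)) (v : Fin n ⊕ Fin n → F) :
    act (levi (pm n F τ)) v = v ∘ Sum.map ⇑(τ : Perm (Fin n))⁻¹ ⇑(τ : Perm (Fin n))⁻¹ := by
  rw [levi_act, ← vInv, ← map_inv]
  change Sum.elim (((τ : Perm (Fin n))⁻¹).permMatrix F *ᵥ _)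
    (((((τ⁻¹ : alternatingGroup (Fin n)) : Perm (Fin n))⁻¹).permMatrix F)ᵀ *ᵥ _) = _
  rw [Matrix.transpose_permMatrix, Matrix.permMatrix_mulVec, Matrix.permMatrix_mulVec, inv_inv,
    Subgroup.coe_inv]
  funext i
  rcases i with i | i <;> rfl

omit [Finite F] in
theorem flip_cov (τ : alternatingGroup (Fin n)) (a : Fin n) :
    levi (pm n F τ) * DModel.flip a = DModel.flip ((τ : Perm (Fin n)) a) * levi (pm n F τ) := by
  refine act_ext fun v => ?_
  rw [act_mul, act_mul, flip_act, flip_act, pm_levi_act, pm_levi_act]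
  funext i
  rcases i with i | i <;> simp only [Function.comp_apply, Sum.map_inl, Sum.map_inr, flipIdx_inl, flipIdx_inr]
  all_goals
    by_cases hi : i = (τ : Perm (Fin n)) a
    · simp [hi]
    · have : ((τ : Perm (Fin n))⁻¹) i ≠ a := fun e => hi (by rw [← e, Perm.inv_def, Equiv.apply_symm_apply])
      rw [Perm.inv_def] at this
      simp [hi, this]

omit [Finite F] in
theorem levi'_eq (l : Fin n) (x : SpecialLinearGroup (Fin n) F) : levi' l x = DModel.flip l * levi x * DModel.flip l := by
  show DModel.flip l * levi x * (DModel.flip l)⁻¹ = _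
  rw [flip_inv]

omit [Finite F] in
theorem sgn_eq_levi' {a b c d : Fin n} (hcd : c ≠ d) (hc : c ≠ a) (hd : d ≠ a) (t : F) :
    sgn F n a b * levi (T c d t) * sgn F n a b = levi' b (T c d t) := by
  rw [levi'_eq, sgn]
  conv_lhs => rw [flip_comm a b]
  rw [show DModel.flip b * DModel.flip a * levi (T c d t) * (DModel.flip b * DModel.flip a) =
    DModel.flip b * (DModel.flip a * levi (T c d t)) * (DModel.flip b * DModel.flip a) by simp only [mul_assoc],
    flip_levi_comm hcd hc hd, ← flip_comm a b]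
  simp only [mul_assoc]
  rw [← mul_assoc (DModel.flip a) (DModel.flip a), flip_sq, one_mul]

/-- The model. -/
theorem model : SRel (levi : SpecialLinearGroup (Fin n) F →* Iso F n) (sgn F n) where
  symm a b _ := flip_comm a b
  sq a b _ := by
    rw [sgn]
    conv_lhs => arg 2; rw [flip_comm]
    rw [mul_assoc, ← mul_assoc (DModel.flip b), flip_sq, one_mul, flip_sq]
  tri a b c _ _ _ := by
    rw [sgn, sgn, sgn, mul_assoc, ← mul_assoc (DModel.flip b), flip_sq, one_mul]
  cov τ a b _ := by
    rw [mul_inv_eq_iff_eq_mul, sgn, sgn, ← mul_assoc, flip_cov, mul_assoc, flip_cov, mul_assoc]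
  fix a b c d _ h2 h3 h4 h5 h6 t := by
    show Commute (DModel.flip a * DModel.flip b) _
    exact Commute.mul_left (flip_levi_comm h2 h3.symm h4.symm t) (flip_levi_comm h2 h5.symm h6.symm t)
  inv a b h t := by
    have h' := h.symm
    rw [sgn]
    refine act_ext fun v => ?_
    simp only [act_mul, flip_act, T_act h, T_act h']
    funext i
    rcases i with i | i <;> by_cases h1 : i = a <;> by_cases h2 : i = b <;>
      simp_all [flipIdx_inl, flipIdx_inr] <;> ring
  same a b c hab hbc hac p q t u := by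
    have e : sgn F n b c * levi (ord q a b u) * sgn F n b c = levi' b (ord q a b u) := by
      rw [show sgn F n b c = sgn F n c b from flip_comm b c]
      cases q
      exacts [sgn_eq_levi' hab.symm hbc hac u, sgn_eq_levi' hab hac hbc u]
    rw [e]
    exact levi_commute_levi' hab p q t u rfl
  far i j k l hij hkl hik hil hjk hjl p q t u := by
    have e : sgn F n i l * levi (ord q k l u) * sgn F n i l = levi' l (ord q k l u) := by
      cases q
      exacts [sgn_eq_levi' hkl.symm hil.symm hik.symm u, sgn_eq_levi' hkl hik.symm hil.symm u]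
    have e' : levi (ord p i j t) = levi' l (ord p i j t) := by
      cases p
      exacts [(levi'_T_fix hij.symm hjl hil t).symm, (levi'_T_fix hij hil hjl t).symm]
    rw [e, e']
    refine Commute.map ?_ (levi' l)
    cases p <;> cases q <;> refine (SLPres.slData n F).comm ?_ ?_ ?_ ?_ _ _ <;>
      first | exact hij | exact hij.symm | exact hkl | exact hkl.symm | exact hik | exact hil | exact hjk | exact hjl

theorem node_eq {i : ℕ} (hi : i < n) (x : SpecialLinearGroup (Fin 2) F) :
    node hn i x = DModel.em hn i (th hn ⟨i, hi⟩ x) := by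
  rw [node, dif_pos hi]
  rfl

theorem fψ_model {i : ℕ} (hi : i < n) :
    fψ hn (levi : SpecialLinearGroup (Fin n) F →* Iso F n) (sgn F n) i = node hn i := by
  by_cases h : i + 1 = n
  · obtain rfl : i = n - 1 := by omega
    refine hom_ext (fun t => ?_) (fun t => ?_)
    · rw [(fψ_last_up hn model t).1, (node_last_vals hn t).1]
      exact sgn_eq_levi' (lt_last hn (by omega)) (ix_ne hn (by omega) (by omega) (by omega))
        (fst_ne_lst hn).symm t
    · rw [(fψ_last_up hn model t).2, (node_last_vals hn t).2]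
      exact sgn_eq_levi' (lt_last hn (by omega)).symm (fst_ne_lst hn).symm
        (ix_ne hn (by omega) (by omega) (by omega)) t
  · refine MonoidHom.ext fun x => ?_
    rw [fψ_low hn _ _ (by omega), node_eq hn hi, DModel.em, if_neg h]
    rfl

theorem fgen_model : fgen hn (levi : SpecialLinearGroup (Fin n) F →* Iso F n) (sgn F n) =
    Cfsg.Omega F (⇑(qPlus F n)) := by
  rw [← image_eq hn]
  exact iSup_congr fun i => iSup_congr fun hi => by rw [fψ_model hn hi]

include hn in
theorem levi_mem (x : SpecialLinearGroup (Fin n) F) : levi x ∈ Cfsg.Omega F (⇑(qPlus F n)) :=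
  fgen_model (F := F) hn ▸ f_mem hn model x

include hn in
theorem sgn_mem {a b : Fin n} (h : a ≠ b) : sgn F n a b ∈ Cfsg.Omega F (⇑(qPlus F n)) :=
  fgen_model (F := F) hn ▸ S_mem hn model h

include hn in
/-- The even orthogonal group is universal for the sign change relations. -/
theorem omega_hom {G : Type*} [Group G] {f : SpecialLinearGroup (Fin n) F →* G} {S : Fin n → Fin n → G}
    (R : SRel f S) :
    ∃ φ : ↥(Cfsg.Omega F (⇑(qPlus F n))) →* G,
      (∀ x, φ ⟨levi x, levi_mem hn x⟩ = f x) ∧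
      ∀ a b (h : a ≠ b), φ ⟨sgn F n a b, sgn_mem hn h⟩ = S a b := by
  have RP := R.prod (model (F := F) (n := n))
  set fP := f.prod (levi : SpecialLinearGroup (Fin n) F →* Iso F n)
  set SP : Fin n → Fin n → G × Iso F n := fun a b => (S a b, sgn F n a b)
  set π := MonoidHom.snd G (Iso F n)
  set D := fgen hn fP SP with hD
  have hπ : ∀ i < n, ∀ x, π (fψ hn fP SP i x) = node hn i x := by
    intro i hi x
    rw [← fψ_model (F := F) hn hi]
    by_cases h : i + 1 = n
    · obtain rfl : i = n - 1 := by omega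
      rw [fψ_last hn RP, fψ_last hn (model (F := F) (n := n))]
      rfl
    · rw [fψ_low hn _ _ (by omega), fψ_low hn _ _ (by omega)]
      rfl
  have hinj : ∀ g ∈ D, π g = 1 → g = 1 := fam_inj hn (fFam hn RP) π hπ (fam_hz hn RP)
  have hmap : D.map π = Cfsg.Omega F (⇑(qPlus F n)) := by
    rw [← image_eq hn, hD, fgen, Subgroup.map_iSup]
    refine iSup_congr fun i => ?_
    rw [Subgroup.map_iSup]
    refine iSup_congr fun hi => ?_
    rw [← MonoidHom.range_comp]
    exact congrArg MonoidHom.range (MonoidHom.ext fun x => hπ i hi x)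
  let q : ↥D →* ↥(Cfsg.Omega F (⇑(qPlus F n))) :=
    (π.comp D.subtype).codRestrict _ fun x => hmap ▸ ⟨x.1, x.2, rfl⟩
  have hqi : Function.Injective q := (injective_iff_map_eq_one q).2 fun x hx =>
    Subtype.ext (hinj x.1 x.2 (congrArg Subtype.val hx :))
  have hqs : Function.Surjective q := fun y => by
    obtain ⟨x, hx, he⟩ := (hmap.symm ▸ y.2 : y.1 ∈ D.map π)
    exact ⟨⟨x, hx⟩, Subtype.ext he⟩
  let e := MulEquiv.ofBijective q ⟨hqi, hqs⟩
  have key : ∀ (g : G × Iso F n) (hg : g ∈ D) (y : ↥(Cfsg.Omega F (⇑(qPlus F n)))), y.1 = g.2 →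
      (((MonoidHom.fst G (Iso F n)).comp D.subtype).comp e.symm.toMonoidHom) y = g.1 := by
    intro g hg y hy
    have he : e.symm y = ⟨g, hg⟩ := e.symm_apply_eq.2 (Subtype.ext hy)
    show (e.symm y).1.1 = g.1
    rw [he]
  exact ⟨_, fun x => key _ (f_mem hn RP x) _ rfl, fun a b h => key _ (S_mem hn RP h) _ rfl⟩

end Cfsg.Agent.OmegaPres
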